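import Cfsg.Agent.PushAut85.Common
import Cfsg.Agent.PLocal.Quadratic
import Cfsg.Agent.FFBlocks.Local
import Cfsg.Agent.LocalStructure.AmalgamCommutator
import Cfsg.Prelude.Def_Quasithin

/-!
# Quadratic offenders from the Thompson subgroup, and small facts for the qrc-lemma
-/

set_option autoImplicit false
set_option linter.style.haveILetI false
set_option linter.unusedSectionVars false

namespace CfsgLib.Qrc85

open Subgroup Cfsg CfsgLib.FFCells
open scoped commutatorElement

variable {G : Type*} [Group G] [Finite G]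

theorem exists_eq_mul {A B : Subgroup G} (h : B ≤ normalizer (A : Set G)) {x : G}
    (hx : x ∈ A ⊔ B) : ∃ a ∈ A, ∃ b ∈ B, x = a * b := by
  have h1 : x ∈ ((A ⊔ B : Subgroup G) : Set G) := hx
  rw [Subgroup.coe_mul_of_right_le_normalizer_left A B h] at h1
  obtain ⟨a, ha, b, hb, e⟩ := Set.mem_mul.1 h1
  exact ⟨a, ha, b, hb, e.symm⟩

/-- A `2`-subgroup of an overgroup of a Sylow subgroup is conjugate into it there. -/
theorem exists_cj_le (T : Sylow 2 G) {H S : Subgroup G} (hTH : (T : Subgroup G) ≤ H) (hSH : S ≤ H)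
    (hS : IsPGroup 2 S) : ∃ n ∈ H, cj n S ≤ (T : Subgroup G) := by
  haveI : Fact (Nat.Prime 2) := ⟨Nat.prime_two⟩
  obtain ⟨Q, hQ⟩ := (hS.comap_subtype (K := H)).exists_le_sylow
  obtain ⟨m, hm⟩ := MulAction.exists_smul_eq H Q (T.subtype hTH)
  refine ⟨m, m.2, ?_⟩
  rintro _ ⟨s, hs, rfl⟩
  have h1 : m * ⟨s, hSH hs⟩ * m⁻¹ ∈ ((m • Q : Sylow 2 H) : Subgroup H) :=
    ⟨⟨s, hSH hs⟩, hQ (mem_subgroupOf.2 hs), rfl⟩
  rw [hm] at h1
  exact h1

/-- A quadratically acting subgroup induces an elementary abelian group. -/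
theorem induces_of_quadratic {V B : Subgroup G} (hV : IsElementaryAbelian 2 V)
    (hBV : B ≤ normalizer (V : Set G)) (hne : ¬ B ≤ centralizer (V : Set G))
    (hq : ⁅⁅V, B⁆, B⁆ = ⊥) : InducesElemAbelianTwoGroupOn B V := by
  refine ⟨hne, fun b hb => PLocal.pow_mem_centralizer_of_quadratic hV.2 (hBV hb) ?_,
    fun b hb b' hb' => ?_⟩
  · exact le_bot_iff.1 (hq ▸ commutator_mono (commutator_mono le_rfl (zpowers_le.2 hb))
      (zpowers_le.2 hb))
  · have h2 : ⁅⁅B, V⁆, B⁆ = ⊥ := by rw [commutator_comm B V, hq]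
    have h3 : ⁅⁅B, B⁆, V⁆ = ⊥ := commutator_commutator_eq_bot_of_rotate h2 hq
    exact commutator_eq_bot_iff_le_centralizer.1 h3 (commutator_mem_commutator hb hb')

/-- From orders to indices. -/
theorem relIndex_le_of_card {W B : Subgroup G}
    (h : Nat.card ↥(B ⊓ centralizer (W : Set G)) * Nat.card W ≤
      Nat.card B * Nat.card ↥(W ⊓ centralizer (B : Set G))) :
    (W ⊓ centralizer (B : Set G)).relIndex W ≤ (centralizer (W : Set G)).relIndex B := by
  have h1 : Nat.card ↥(W ⊓ centralizer (B : Set G)) * (W ⊓ centralizer (B : Set G)).relIndex W =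
      Nat.card W := PLocal.card_mul_relIndex inf_le_left
  have h2 : Nat.card ↥(B ⊓ centralizer (W : Set G)) * (centralizer (W : Set G)).relIndex B =
      Nat.card B := by
    rw [← Subgroup.inf_relIndex_left B]
    exact PLocal.card_mul_relIndex inf_le_left
  have hpos : 0 < Nat.card ↥(B ⊓ centralizer (W : Set G)) *
      Nat.card ↥(W ⊓ centralizer (B : Set G)) := Nat.mul_pos Nat.card_pos Nat.card_pos
  refine Nat.le_of_mul_le_mul_left ?_ hpos
  calc _ = Nat.card ↥(B ⊓ centralizer (W : Set G)) * Nat.card W := by rw [mul_assoc, h1]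
    _ ≤ Nat.card B * Nat.card ↥(W ⊓ centralizer (B : Set G)) := h
    _ = _ := by rw [← h2]; ring

/-- A largest elementary abelian subgroup not centralising `W` contains a quadratic offender
that does not centralise `W`. -/
theorem exists_quad_offender (T : Sylow 2 G) {A W : Subgroup G}
    (hA : A ∈ PLocal.maxEAIn 2 (T : Subgroup G)) (hW : IsElementaryAbelian 2 W)
    (hAW : A ≤ normalizer (W : Set G)) (hne : ¬ A ≤ centralizer (W : Set G)) :
    ∃ B ≤ A, ¬ B ≤ centralizer (W : Set G) ∧ ⁅⁅W, B⁆, B⁆ = ⊥ ∧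
      Nat.card ↥(B ⊓ centralizer (W : Set G)) * Nat.card W ≤
        Nat.card B * Nat.card ↥(W ⊓ centralizer (B : Set G)) := by
  classical
  haveI : Fact (Nat.Prime 2) := ⟨Nat.prime_two⟩
  rw [FFBlocks.maxEAIn_sylow] at hA
  obtain ⟨⟨-, hAe, hAmax⟩, -⟩ := hA
  set A₀ := A ⊓ centralizer (W : Set G) with hA₀
  have hwA : Nat.card A₀ * Nat.card W ≤ PLocal.offenderWeight W A := by
    have h2 : Nat.card ↥(A₀ ⊔ W) ≤ Nat.card A := hAmax _ le_top (PLocal.isElementaryAbelian_sup
      (PLocal.isElementaryAbelian_of_le hAe inf_le_left) hW inf_le_right)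
    have h3 := CfsgLib.LocalEvenBasic.card_mul_le_inf_mul_sup A₀ W
    have h4 : Nat.card ↥(A₀ ⊓ W) ≤ Nat.card ↥(W ⊓ centralizer (A : Set G)) :=
      card_le_of_le fun x hx => mem_inf.2 ⟨hx.2,
        le_centralizer_iff_isMulCommutative.2 hAe.1 hx.1.1⟩
    exact (h3.trans (Nat.mul_le_mul h4 h2)).trans (le_of_eq (Nat.mul_comm _ _))
  obtain ⟨A₁, hA₁A, hmax, hor⟩ : ∃ A₁ ≤ A,
      (∀ B ≤ A, PLocal.offenderWeight W B ≤ PLocal.offenderWeight W A₁) ∧
      (A₁ = A ∨ PLocal.offenderWeight W A < PLocal.offenderWeight W A₁) := by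
    obtain ⟨A₁, hA₁, hmax⟩ := Set.exists_max_image {B : Subgroup G | B ≤ A}
      (fun B => PLocal.offenderWeight W B) (Set.toFinite _) ⟨A, le_refl A⟩
    rcases (hmax A (le_refl A)).lt_or_eq with h | h
    · exact ⟨A₁, hA₁, hmax, Or.inr h⟩
    · exact ⟨A, le_rfl, fun B hB => (hmax B hB).trans h.ge, Or.inl rfl⟩
  have hab : ⁅A₁, A₁⁆ ≤ centralizer (W : Set G) := by
    rw [commutator_eq_bot_iff_le_centralizer.2 ((le_centralizer_iff_isMulCommutative.2
      (PLocal.isMulCommutative_of_le hAe.1 hA₁A)))]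
    exact bot_le
  obtain ⟨hw, hfix⟩ := PLocal.replacement hW.1 (hA₁A.trans hAW) hab
    (fun B hB => hmax B (hB.trans hA₁A)) (le_refl W)
  set B := A₁ ⊓ centralizer ((⁅W, A₁⁆ : Subgroup G) : Set G) with hB
  have hBA : B ≤ A := inf_le_left.trans hA₁A
  have hwB : Nat.card A₀ * Nat.card W ≤ PLocal.offenderWeight W B :=
    (hwA.trans (hmax A le_rfl)).trans hw.ge
  refine ⟨B, hBA, fun hBC => ?_, ?_, ?_⟩
  · rcases hor with e | hlt
    · subst e
      have hall : W ⊓ centralizer (B : Set G) = W := inf_eq_left.2 (le_centralizer_iff.1 hBC)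
      rw [hall] at hfix
      have hWp : IsPGroup 2 W := PLocal.isPGroup_of_isElementaryAbelian hW
      have hp : IsPGroup 2 ↥(W ⊔ A₁) :=
        hWp.to_sup_of_normal_left' (PLocal.isPGroup_of_isElementaryAbelian hAe) hAW
      have hn : W ⊔ A₁ ≤ normalizer ((W ⊓ centralizer (A₁ : Set G) : Subgroup G) : Set G) := by
        refine sup_le ?_ ?_
        · exact (le_centralizer_iff.1 ((inf_le_left : W ⊓ centralizer (A₁ : Set G) ≤ W).trans
            (le_centralizer_iff_isMulCommutative.2 hW.1))).trans (centralizer_le_normalizer _)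
        · exact (le_centralizer_iff.1 (inf_le_right : W ⊓ centralizer (A₁ : Set G) ≤ _)).trans
            (centralizer_le_normalizer _)
      have h1 := LocalStructure.le_of_le_sup_commutator_isPGroup hp
        ((inf_le_left : W ⊓ centralizer (A₁ : Set G) ≤ W).trans le_sup_left) le_sup_left hn (by
          refine hfix.le.trans ?_
          rw [sup_comm]
          exact sup_le_sup_left (commutator_mono le_rfl le_sup_right) _)
      exact hne (le_centralizer_iff.1 (h1.trans inf_le_right))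
    · refine absurd hwA (not_le.2 (hlt.trans_le ?_))
      rw [← hw, PLocal.offenderWeight]
      exact Nat.mul_le_mul (card_le_of_le (le_inf hBA hBC)) (card_le_of_le inf_le_left)
  · rw [eq_bot_iff]
    refine (commutator_mono (commutator_mono le_rfl (inf_le_left : B ≤ A₁)) le_rfl).trans ?_
    rw [le_bot_iff, commutator_eq_bot_iff_le_centralizer, le_centralizer_iff]
    exact inf_le_right
  · exact (Nat.mul_le_mul_right _ (card_le_of_le (inf_le_inf_right _ hBA))).trans hwB

end CfsgLib.Qrc85
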