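import Cfsg.Agent.FFCells.Config
import Cfsg.Agent.FFCells.Cross
import Cfsg.Agent.LocalCStar50.Quot
import Cfsg.Agent.LocalStructure.Cores

/-!
# A canonical lift of a vector fixed by all roots of a configuration
-/

set_option autoImplicit false
set_option linter.style.haveILetI false
set_option linter.unusedSectionVars false

namespace CfsgLib.Qrc85

open Subgroup Matrix CfsgLib.SL2Recognition CfsgLib.FFCells CfsgLib.Linear
open scoped MatrixGroups commutatorElement

variable {Q V U : Type*} [Group Q] [Finite Q] [AddCommGroup V] [Finite V] [AddCommGroup U]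

/-- A module over `V` whose kernel is centralised by `E`. -/
structure Lift (σ : Q →* AddMonoid.End V) (ρ : Q →* AddMonoid.End U) (π : U →+ V)
    (E : Subgroup Q) : Prop where
  equi : ∀ g u, π (ρ g u) = σ g (π u)
  exp : ∀ u : U, u + u = 0
  fixker : ∀ g ∈ E, ∀ u, π u = 0 → ρ g u = u
  moves : ∀ g ∈ E, ∀ w, σ g w - w ∈ π.range
  normal : E.Normal
  odd : ∀ g : Q, (orderOf g).Coprime 2 → g ∈ E

/-- The sum over `1, y, y²`. -/
def tr {W : Type*} [AddCommGroup W] (τ : Q →* AddMonoid.End W) (y : Q) (w : W) : W :=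
  w + τ y w + τ (y * y) w

theorem tr_add {W : Type*} [AddCommGroup W] (τ : Q →* AddMonoid.End W) (y : Q) (a b : W) :
    tr τ y (a + b) = tr τ y a + tr τ y b := by simp only [tr, map_add]; abel

theorem tr_sub {W : Type*} [AddCommGroup W] (τ : Q →* AddMonoid.End W) (y : Q) (a b : W) :
    tr τ y (a - b) = tr τ y a - tr τ y b := by simp only [tr, map_sub]; abel

theorem tr_zero {W : Type*} [AddCommGroup W] (τ : Q →* AddMonoid.End W) (y : Q) :
    tr τ y (0 : W) = 0 := by simp [tr]

theorem tr_conj {W : Type*} [AddCommGroup W] (τ : Q →* AddMonoid.End W) (g y : Q) (w : W) :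
    tr τ (g * y * g⁻¹) (τ g w) = τ g (tr τ y w) := by
  simp only [tr, map_add, ← apply_mul]
  congr 2
  · group
  · group

theorem tr_sq {W : Type*} [AddCommGroup W] (τ : Q →* AddMonoid.End W) {y : Q}
    (hy : y * y * y = 1) (w : W) : tr τ (y * y) w = tr τ y w := by
  simp only [tr]
  rw [show y * y * (y * y) = (y * y * y) * y by group, hy, one_mul]
  abel

theorem tr_of_fix {W : Type*} [AddCommGroup W] {τ : Q →* AddMonoid.End W} {y : Q} {w : W}
    (h2 : ∀ u : W, u + u = 0) (h : τ y w = w) : tr τ y w = w := by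
  simp only [tr, apply_mul, h]
  rw [h2, zero_add]

namespace Lift

variable {σ : Q →* AddMonoid.End V} {ρ : Q →* AddMonoid.End U} {π : U →+ V} {E : Subgroup Q}
  (hL : Lift σ ρ π E)
include hL

theorem π_tr (y : Q) (u : U) : π (tr ρ y u) = tr σ y (π u) := by
  simp [tr, map_add, hL.equi]

theorem apply_range (g : Q) {w : V} (hw : w ∈ π.range) : σ g w ∈ π.range := by
  obtain ⟨u, rfl⟩ := hw
  exact ⟨ρ g u, hL.equi g u⟩

/-- The roots are in `E` when they are large. -/
theorem grp_le {c : Subgroup Q × Subgroup Q} (D : CellData σ c.1 c.2)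
    (hp0 : ∀ v : V, 2 • v = 0) (hq : Nat.card c.1 ≠ 2) :
    c.2 ≤ E ∧ ∀ u₀, π u₀ ∈ fix σ c.2 → ∀ l ∈ c.2, ρ l u₀ = u₀ := by
  classical
  haveI : Fact (Nat.Prime 2) := ⟨Nat.prime_two⟩
  haveI := D.charP hp0
  have hcard : 2 < Fintype.card D.F := by
    have h1 : 1 < Fintype.card D.F := Fintype.one_lt_card
    have h2 : Fintype.card D.F ≠ 2 := fun e => hq (by
      rw [D.card_root, Nat.card_eq_fintype_card, e])
    omega
  obtain ⟨z, hz⟩ : ∃ z : D.Fˣ, z ≠ 1 :=
    Fintype.exists_ne_of_one_lt_card (by rw [Fintype.card_units]; omega) 1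
  have hz0 : (z : D.F) * z - 1 ≠ 0 := by
    intro e
    refine hz (Units.ext ?_)
    have e2 : ((z : D.F) - 1) * ((z : D.F) - 1) = 0 := by
      linear_combination e - ((z : D.F) - 1) * (CharTwo.two_eq_zero : (2 : D.F) = 0)
    exact sub_eq_zero.1 (mul_self_eq_zero.1 e2)
  set d : c.2 := D.φ.symm (WeakClosed.Torus.diag z) with hd
  set g : Q := (d : Q) with hg
  have hodd : (orderOf g).Coprime 2 := by
    have h1 : g ^ (Fintype.card D.F - 1) = 1 := by
      have e : z ^ (Fintype.card D.F - 1) = 1 := Units.ext (by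
        rw [Units.val_pow_eq_pow_val, FiniteField.pow_card_sub_one_eq_one _ (Units.ne_zero z)]
        rfl)
      rw [hg, hd, ← SubgroupClass.coe_pow, ← map_pow, ← map_pow, e, map_one, map_one]
      rfl
    have hdiv : 2 ∣ Fintype.card D.F := CfsgLib.Linear.prime_dvd_card 2
    refine Nat.Coprime.of_dvd_left (orderOf_dvd_of_pow_eq_one h1) ?_
    rw [Nat.coprime_two_right, Nat.odd_iff]
    omega
  have hgE : g ∈ E := hL.odd g hodd
  have hcomm : ∀ t, ∃ s, D.u t = g * D.u s * g⁻¹ * (D.u s)⁻¹ ∧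
      D.low t = g⁻¹ * D.low s * g * (D.low s)⁻¹ := by
    intro t
    have hs := div_mul_cancel₀ t hz0
    generalize hs' : t / ((z : D.F) * z - 1) = s at hs
    refine ⟨s, ?_, ?_⟩
    · have e : D.φ.symm (upperUni t) = d * D.φ.symm (upperUni s) * d⁻¹ *
          (D.φ.symm (upperUni s))⁻¹ := by
        apply D.φ.injective
        simp only [hd, map_mul, map_inv, MulEquiv.apply_symm_apply]
        rw [eq_mul_inv_iff_mul_eq, eq_mul_inv_iff_mul_eq]
        refine Subtype.ext ?_
        simp only [Matrix.SpecialLinearGroup.coe_mul, upperUni_val, torus_val]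
        ext i j
        fin_cases i <;> fin_cases j <;> simp [Matrix.mul_apply, Fin.sum_univ_two]
        field_simp
        first
          | linear_combination hs
          | linear_combination -hs
      exact congrArg Subtype.val e
    · have e : D.φ.symm (lowerUni t) = d⁻¹ * D.φ.symm (lowerUni s) * d *
          (D.φ.symm (lowerUni s))⁻¹ := by
        apply D.φ.injective
        simp only [hd, map_mul, map_inv, MulEquiv.apply_symm_apply]
        rw [eq_mul_inv_iff_mul_eq, mul_assoc ((WeakClosed.Torus.diag z)⁻¹), eq_inv_mul_iff_mul_eq]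
        refine Subtype.ext ?_
        simp only [Matrix.SpecialLinearGroup.coe_mul, lowerUni_val, torus_val]
        ext i j
        fin_cases i <;> fin_cases j <;> simp [Matrix.mul_apply, Fin.sum_univ_two]
        field_simp
        first
          | linear_combination hs
          | linear_combination -hs
      exact congrArg Subtype.val e
  have hu : ∀ t, D.u t ∈ E ∧ D.low t ∈ E := fun t => by
    obtain ⟨s, h1, h2⟩ := hcomm t
    constructor
    · rw [h1, mul_assoc, mul_assoc, ← mul_assoc (D.u s)]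
      exact mul_mem hgE (hL.normal.conj_mem _ (inv_mem hgE) _)
    · rw [h2, mul_assoc, mul_assoc, ← mul_assoc (D.low s)]
      exact mul_mem (inv_mem hgE) (hL.normal.conj_mem _ hgE _)
  have hLE : c.2 ≤ E := D.le_of_mem (fun t => (hu t).1) fun t => (hu t).2
  refine ⟨hLE, fun u₀ hu₀ => ?_⟩
  have hker : ∀ l ∈ c.2, π (ρ l u₀ - u₀) = 0 := fun l hl => by
    rw [map_sub, hL.equi, hu₀ l hl, sub_self]
  have hmul : ∀ l ∈ c.2, ∀ l' ∈ c.2,
      ρ (l * l') u₀ - u₀ = (ρ l u₀ - u₀) + (ρ l' u₀ - u₀) := fun l hl l' hl' => by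
    have h1 := hL.fixker l (hLE hl) _ (hker l' hl')
    rw [map_sub, ← apply_mul] at h1
    rw [← h1]; abel
  have hinv : ∀ l ∈ c.2, ρ l⁻¹ u₀ - u₀ = -(ρ l u₀ - u₀) := fun l hl => by
    have h1 := hmul l⁻¹ (inv_mem hl) l hl
    rw [inv_mul_cancel, apply_one, sub_self] at h1
    exact eq_neg_of_add_eq_zero_left h1.symm
  have hcom : ∀ a ∈ c.2, ∀ b ∈ c.2, ρ (a * b * a⁻¹ * b⁻¹) u₀ = u₀ := fun a ha b hb => by
    refine sub_eq_zero.1 ?_
    rw [hmul _ (mul_mem (mul_mem ha hb) (inv_mem ha)) _ (inv_mem hb),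
      hmul _ (mul_mem ha hb) _ (inv_mem ha), hmul a ha b hb, hinv a ha, hinv b hb]
    abel
  let S : Subgroup Q :=
    { carrier := {l | ρ l u₀ = u₀}
      one_mem' := apply_one ρ u₀
      mul_mem' := fun {a b} ha hb => by
        show ρ (a * b) u₀ = u₀
        rw [apply_mul, show ρ b u₀ = u₀ from hb]; exact ha
      inv_mem' := fun {a} ha => by
        show ρ a⁻¹ u₀ = u₀
        conv_lhs => rw [← show ρ a u₀ = u₀ from ha]
        rw [apply_inv_apply] }
  have hgL : g ∈ c.2 := d.2
  exact fun l hl => (D.le_of_mem (K := S)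
    (fun t => by
      obtain ⟨s, h1, -⟩ := hcomm t
      show ρ (D.u t) u₀ = u₀
      rw [h1]
      exact hcom g hgL _ (D.u_memL s))
    (fun t => by
      obtain ⟨s, -, h2⟩ := hcomm t
      show ρ (D.low t) u₀ = u₀
      have h3 := hcom g⁻¹ (inv_mem hgL) _ (D.low_mem s)
      rw [inv_inv] at h3
      rw [h2]
      exact h3)) hl

/-- The case of cells over the field of two elements. -/
theorem exists_fixed_two {T : Subgroup Q} {𝒞 : Set (Subgroup Q × Subgroup Q)}
    (hC : Config σ 2 T 𝒞) (hq : ∀ c ∈ 𝒞, Nat.card c.1 = 2)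
    (h0 : ∀ w ∈ fix σ (grpsJoin 𝒞), w = 0) {v : V} (hv : v ∈ fix σ (rootsJoin 𝒞))
    (hne : ∀ c ∈ 𝒞, v ∉ fix σ c.2) {t : Q} (ht : t ∈ T) : ∃ m, π m = v ∧ ρ t m = m := by
  classical
  haveI : Fact (Nat.Prime 2) := ⟨Nat.prime_two⟩
  haveI : Fintype 𝒞 := Fintype.ofFinite _
  have hF := hC.pre.fam
  have hp2 : ∀ w : V, w + w = 0 := fun w => (two_nsmul w).symm.trans (hC.pre.exp w)
  have hfield : ∀ (c : 𝒞) (r : (hF.data c).F), r = 0 ∨ r = 1 := fun c r => by
    have h2 : Nat.card (hF.data c).F = 2 := (hF.data c).card_root.symm.trans (hq c.1 c.2)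
    obtain ⟨y, hy, huy⟩ := (Nat.card_eq_two_iff' (0 : (hF.data c).F)).1 h2
    by_cases hr : r = 0
    · exact Or.inl hr
    · exact Or.inr ((huy r hr).trans (huy 1 one_ne_zero).symm)
  let x : 𝒞 → Q := fun c => (hF.data c).u 1 * (hF.data c).low 1
  have hxL : ∀ c : 𝒞, x c ∈ c.1.2 := fun c => mul_mem ((hF.data c).u_memL _) ((hF.data c).low_mem _)
  have hXmat : ∀ c : 𝒞, (((hF.data c).φ ⟨x c, hxL c⟩) :
      Matrix (Fin 2) (Fin 2) (hF.data c).F) = !![0, 1; 1, 1] := fun c => by
    haveI := (hF.data c).charP hC.pre.exp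
    have e : (⟨x c, hxL c⟩ : c.1.2) =
        (hF.data c).φ.symm (upperUni 1) * (hF.data c).φ.symm (lowerUni 1) := rfl
    rw [e, map_mul, MulEquiv.apply_symm_apply, MulEquiv.apply_symm_apply,
      Matrix.SpecialLinearGroup.coe_mul, upperUni_val, lowerUni_val]
    ext i j
    fin_cases i <;> fin_cases j <;>
      simp [Matrix.mul_apply, Fin.sum_univ_two, CharTwo.add_self_eq_zero]
  have hx3 : ∀ c, x c * x c * x c = 1 := fun c => by
    haveI := (hF.data c).charP hC.pre.exp
    have e : (⟨x c, hxL c⟩ : c.1.2) * ⟨x c, hxL c⟩ * ⟨x c, hxL c⟩ = 1 := by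
      apply (hF.data c).φ.injective
      refine Subtype.ext ?_
      rw [map_mul, map_mul, map_one, Matrix.SpecialLinearGroup.coe_mul,
        Matrix.SpecialLinearGroup.coe_mul, hXmat, Matrix.SpecialLinearGroup.coe_one]
      ext i j
      fin_cases i <;> fin_cases j <;>
        simp [Matrix.mul_apply, Fin.sum_univ_two, CharTwo.add_self_eq_zero]
    exact congrArg Subtype.val e
  have hx1 : ∀ c, x c ≠ 1 := fun c e => by
    have h1 := hXmat c
    rw [show (⟨x c, hxL c⟩ : c.1.2) = 1 from Subtype.ext e, map_one,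
      Matrix.SpecialLinearGroup.coe_one] at h1
    simpa using congrFun (congrFun h1 0) 1
  have hxE : ∀ c, x c ∈ E := fun c => hL.odd _ (by
    rw [orderOf_eq_prime (p := 3) (by rw [pow_succ, pow_succ, pow_one, hx3]) (hx1 c)]
    norm_num)
  -- moves of the root lie in the kernel of the trace
  have hz : ∀ (c : 𝒞) (e : V), tr σ (x c) (σ ((hF.data c).u 1) e - e) = 0 := by
    intro c e
    haveI := (hF.data c).charP hC.pre.exp
    set D := hF.data c
    set a := D.u 1 with ha
    have hrel : a * x c = x c * x c * a := by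
      have e1 : D.φ.symm (upperUni 1) * ⟨x c, hxL c⟩ =
          (⟨x c, hxL c⟩ : c.1.2) * ⟨x c, hxL c⟩ * D.φ.symm (upperUni 1) := by
        apply D.φ.injective
        refine Subtype.ext ?_
        simp only [map_mul, MulEquiv.apply_symm_apply, Matrix.SpecialLinearGroup.coe_mul,
          upperUni_val, D]
        rw [hXmat]
        ext i j
        fin_cases i <;> fin_cases j <;>
          simp [Matrix.mul_apply, Fin.sum_univ_two, CharTwo.add_self_eq_zero]
      exact congrArg Subtype.val e1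
    have hrel2 : a * (x c * x c) = x c * a := by
      rw [← mul_assoc, hrel, mul_assoc _ a, hrel, ← mul_assoc, ← mul_assoc, hx3, one_mul]
    have hN : σ a (tr σ (x c) e) = tr σ (x c) (σ a e) := by
      simp only [tr, map_add, ← apply_mul]
      rw [hrel, hrel2]; abel
    have hfix : tr σ (x c) e ∈ fix σ c.1.2 := by
      refine (D.ker _).1 ?_
      simp only [tr, map_add]
      rw [apply_mul σ (x c) (x c) e, show x c = ((⟨x c, hxL c⟩ : c.1.2) : Q) from rfl, D.equiv,
        D.equiv, D.equiv, hXmat]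
      have hmv : ∀ w : Fin 2 → D.F, !![0, 1; 1, 1] *ᵥ w = ![w 1, w 0 + w 1] := fun w => by
        ext i
        fin_cases i <;> simp [mulVec, dotProduct, Fin.sum_univ_two]
      have h20 : (2 : D.F) = 0 := CharTwo.two_eq_zero
      rw [hmv, hmv]
      funext i
      fin_cases i
      · show D.ψ e 0 + D.ψ e 1 + (D.ψ e 0 + D.ψ e 1) = 0
        linear_combination (D.ψ e 0 + D.ψ e 1) * h20
      · show D.ψ e 1 + (D.ψ e 0 + D.ψ e 1) + (D.ψ e 1 + (D.ψ e 0 + D.ψ e 1)) = 0
        linear_combination (D.ψ e 0 + 2 * D.ψ e 1) * h20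
    rw [tr_sub, ← hN, hfix a (D.u_memL 1), sub_self]
  -- the vectors of the lines
  have he : ∀ c : 𝒞, ∃ e, (hF.data c).ψ e = ![0, 1] := fun c => (hF.data c).surj _
  choose e he' using he
  let α : 𝒞 → V := fun c => σ ((hF.data c).u 1) (e c) - e c
  have hα : ∀ c : 𝒞, (hF.data c).ψ (α c) = ![1, 0] := fun c => by
    rw [(hF.data c).ψ_apply_sub, he']
    simp
  have hαu : ∀ (c : 𝒞) (w : V), tr σ (x c) w = 0 → (hF.data c).ψ w = ![1, 0] → w = α c := by
    intro c w hw hψ
    refine sub_eq_zero.1 ?_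
    have h1 : w - α c ∈ fix σ c.1.2 := ((hF.data c).ker _).1 (by rw [map_sub, hψ, hα, sub_self])
    have h2 := tr_of_fix hp2 (h1 _ (hxL c))
    rw [tr_sub, hw, hz, sub_zero] at h2
    exact h2.symm
  have hαr : ∀ c, α c ∈ π.range := fun c => by
    have h1 : α c + σ (x c) (α c) + σ (x c * x c) (α c) = 0 := hz c (e c)
    have e2 : (σ (x c) (α c) - α c) + (σ (x c * x c) (α c) - α c) = α c := by
      calc (σ (x c) (α c) - α c) + (σ (x c * x c) (α c) - α c)
          = (α c + σ (x c) (α c) + σ (x c * x c) (α c)) - (α c + α c) - α c := by abel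
        _ = α c := by rw [h1, hp2, sub_zero, zero_sub, neg_eq_iff_add_eq_zero, hp2]
    rw [← e2]
    exact add_mem (hL.moves _ (hxE c) _) (hL.moves _ (mul_mem (hxE c) (hxE c)) _)
  -- canonical lifts
  have hlift : ∀ c : 𝒞, ∃ m, π m = α c ∧ tr ρ (x c) m = 0 := fun c => by
    obtain ⟨u, hu⟩ := hαr c
    refine ⟨u + tr ρ (x c) u, ?_, ?_⟩
    · rw [map_add, hL.π_tr, hu, hz, add_zero]
    · have e1 : tr ρ (x c) (tr ρ (x c) u) = tr ρ (x c) u := by
        simp only [tr, map_add, ← apply_mul]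
        rw [show x c * x c * (x c * x c) = (x c * x c * x c) * x c by group,
          show x c * (x c * x c) = x c * x c * x c by group, hx3, one_mul, apply_one]
        have h3 := hL.exp u
        have h4 := hL.exp (ρ (x c) u)
        have h5 := hL.exp (ρ (x c * x c) u)
        calc _ = (u + u) + (ρ (x c) u + ρ (x c) u) + (ρ (x c * x c) u + ρ (x c * x c) u) +
              (u + ρ (x c) u + ρ (x c * x c) u) := by abel
          _ = _ := by rw [h3, h4, h5]; abel
      rw [tr_add, e1, hL.exp]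
  choose mc hmπ hmtr using hlift
  have hmu : ∀ (c : 𝒞) (w : U), π w = α c → tr ρ (x c) w = 0 → w = mc c := by
    intro c w hw htr
    refine sub_eq_zero.1 ?_
    have hk : π (w - mc c) = 0 := by rw [map_sub, hw, hmπ, sub_self]
    have h2 := tr_of_fix hL.exp (hL.fixker _ (hxE c) _ hk)
    rw [tr_sub, htr, hmtr, sub_zero] at h2
    exact h2.symm
  -- `t` permutes them
  have hperm : ∀ c : 𝒞, ρ t (mc c) = mc (hC.pre.img ht c) := by
    intro c
    set d := hC.pre.img ht c with hd
    set y := t * x c * t⁻¹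
    have hyd : y ∈ d.1.2 := conj_mem_cj (hxL c)
    have hy : y = x d ∨ y = x d * x d := by
      haveI := (hF.data d).charP hC.pre.exp
      set g := (hF.data d).φ ⟨y, hyd⟩ with hg
      have hg3 : g * g * g = 1 := by
        rw [hg, ← map_mul, ← map_mul, ← map_one (hF.data d).φ]
        congr 1
        refine Subtype.ext ?_
        show y * y * y = 1
        simp only [y]
        rw [show t * x c * t⁻¹ * (t * x c * t⁻¹) * (t * x c * t⁻¹) =
          t * (x c * x c * x c) * t⁻¹ by group, hx3, mul_one, mul_inv_cancel]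
      have hg1 : g ≠ 1 := fun eg => hx1 c (by
        have h1 : (⟨y, hyd⟩ : d.1.2) = 1 := (hF.data d).φ.injective (eg.trans (map_one _).symm)
        have h2 : t * x c * t⁻¹ = 1 := congrArg Subtype.val h1
        simpa using conj_eq_one_iff.1 h2)
      have hgX : g.1 = !![0, 1; 1, 1] ∨ g.1 = !![1, 1; 1, 0] := by
        have h3 := congrArg Subtype.val hg3
        have hdet := g.2
        have h1 : g.1 ≠ 1 := fun e1 => hg1 (Subtype.ext e1)
        simp only [Matrix.SpecialLinearGroup.coe_mul, Matrix.SpecialLinearGroup.coe_one] at h3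
        rw [Matrix.eta_fin_two g.1] at h3 hdet h1 ⊢
        rcases hfield d (g.1 0 0) with a | a <;> rcases hfield d (g.1 0 1) with b | b <;>
          rcases hfield d (g.1 1 0) with c' | c' <;> rcases hfield d (g.1 1 1) with d' | d' <;>
          simp_all [Matrix.mul_fin_two, Matrix.one_fin_two, CharTwo.add_self_eq_zero,
            Matrix.det_fin_two_of]
      rcases hgX with e1 | e1
      · left
        have : (⟨y, hyd⟩ : d.1.2) = ⟨x d, hxL d⟩ :=
          (hF.data d).φ.injective (Subtype.ext (e1.trans (hXmat d).symm))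
        exact congrArg Subtype.val this
      · right
        have : (⟨y, hyd⟩ : d.1.2) = ⟨x d, hxL d⟩ * ⟨x d, hxL d⟩ := by
          apply (hF.data d).φ.injective
          refine Subtype.ext (e1.trans ?_)
          rw [map_mul, Matrix.SpecialLinearGroup.coe_mul, hXmat]
          ext i j
          fin_cases i <;> fin_cases j <;>
            simp [Matrix.mul_apply, Fin.sum_univ_two, CharTwo.add_self_eq_zero]
        exact congrArg Subtype.val this
    refine hmu d _ ?_ ?_
    · rw [hL.equi, hmπ]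
      refine hαu d _ ?_ ?_
      · have h1 := tr_conj σ t (x c) (α c)
        rw [hz c (e c), map_zero] at h1
        rcases hy with hy | hy
        · rwa [show t * x c * t⁻¹ = x d from hy] at h1
        · rwa [show t * x c * t⁻¹ = x d * x d from hy, tr_sq σ (hx3 d)] at h1
      · have hfx : σ t (α c) ∈ fix σ d.1.1 := mem_fix_cj.2 (by
          rw [apply_inv_apply]; exact (hF.data c).mem_fix_iff.2 (by rw [hα]; rfl))
        have h10 := (hF.data d).mem_fix_iff.1 hfx
        ext i
        fin_cases i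
        · rcases hfield d ((hF.data d).ψ (σ t (α c)) 0) with hh | hh
          · exfalso
            have hzero : (hF.data d).ψ (σ t (α c)) = 0 := by
              ext i; fin_cases i
              · exact hh
              · exact h10
            have h00 := congrFun ((hC.pre.ψ_img_eq_zero ht c).1 hzero) 0
            rw [hα] at h00
            simp at h00
          · exact hh
        · exact h10
    · have h1 := tr_conj ρ t (x c) (mc c)
      rw [hmtr, map_zero] at h1
      rcases hy with hy | hy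
      · rwa [show t * x c * t⁻¹ = x d from hy] at h1
      · rwa [show t * x c * t⁻¹ = x d * x d from hy, tr_sq ρ (hx3 d)] at h1
  refine ⟨∑ c, mc c, ?_, ?_⟩
  · rw [map_sum, ← sub_eq_zero]
    refine h0 _ (hF.mem_fix_grps.2 fun d => ?_)
    rw [map_sub, map_sum, Finset.sum_eq_single d
      (fun c _ hc => by rw [hmπ]; exact hF.ψ_root_sub_ne hc.symm ((hF.data c).u_mem 1) _)
      (fun h => absurd (Finset.mem_univ d) h), hmπ, hα, sub_eq_zero]
    have h1 := hF.mem_fix_join.1 hv d
    ext i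
    fin_cases i
    · rcases hfield d ((hF.data d).ψ v 0) with hh | hh
      · exfalso
        refine hne d.1 d.2 (((hF.data d).ker v).1 ?_)
        ext i; fin_cases i
        · exact hh
        · exact h1
      · exact hh.symm
    · exact h1.symm
  · rw [map_sum]
    simp only [hperm]
    exact (Finite.injective_iff_bijective.1 (hC.pre.img_inj ht)).sum_comp mc

/-- The case of larger fields. -/
theorem exists_fixed_large {T : Subgroup Q} {𝒞 : Set (Subgroup Q × Subgroup Q)}
    (hC : Config σ 2 T 𝒞) (hq : ∀ c ∈ 𝒞, Nat.card c.1 ≠ 2) (hE : E ≤ grpsJoin 𝒞)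
    (hquad : ∀ c ∈ 𝒞, ∀ a ∈ c.1, ∀ b ∈ c.1, ∀ u, ρ a (ρ b u - u) = ρ b u - u)
    (h0 : ∀ w ∈ fix σ (grpsJoin 𝒞), w = 0) {v : V} (hv : v ∈ fix σ (rootsJoin 𝒞))
    {t : Q} (ht : t ∈ T) (htE : t ∈ E) : ∃ m, π m = v ∧ ρ t m = m := by
  classical
  haveI : Fact (Nat.Prime 2) := ⟨Nat.prime_two⟩
  haveI : Fintype 𝒞 := Fintype.ofFinite _
  have hF := hC.pre.fam
  have hinj := hC.pre.inj
  have horth : ∀ c ∈ 𝒞, ∀ d ∈ 𝒞, c ≠ d → Orth σ c.2 d.2 := fun c hc d hd hne =>
    (hC.dich c hc d hd hne).resolve_right fun hl => hq c hc hl.1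
  have hgrp := fun c : 𝒞 => hL.grp_le (hF.data c) hC.pre.exp (hq c.1 c.2)
  have hsurj : ∀ w, w ∈ π.range := fun w => by
    obtain ⟨u, hu, hu'⟩ := LocalCStar50.Fam.exists_mem_sub hF (U := π.range)
      (fun c hc l hl x => hL.moves l ((hgrp ⟨c, hc⟩).1 hl) x) w
    have := h0 _ hu'
    rw [sub_eq_zero] at this
    exact this ▸ hu
  have he : ∀ c : 𝒞, ∃ e : U, (hF.data c).ψ (π e) = ![0, (hF.data c).ψ v 0] := fun c => by
    obtain ⟨w, hw⟩ := (hF.data c).surj ![0, (hF.data c).ψ v 0]
    obtain ⟨u, hu⟩ := hsurj w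
    exact ⟨u, by rw [hu, hw]⟩
  choose e he' using he
  let mc : 𝒞 → U := fun c => ρ ((hF.data c).u 1) (e c) - e c
  refine ⟨∑ c, mc c, ?_, ?_⟩
  · rw [map_sum, ← sub_eq_zero]
    refine h0 _ (hF.mem_fix_grps.2 fun d => ?_)
    simp only [mc, map_sub, hL.equi]
    simp only [map_sum]
    rw [Finset.sum_eq_single d
      (fun c _ hc => by
        exact hF.ψ_root_sub_ne hc.symm ((hF.data c).u_mem 1) _)
      (fun h => absurd (Finset.mem_univ d) h), (hF.data d).ψ_apply_sub, he', sub_eq_zero]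
    have h1 := hF.mem_fix_join.1 hv d
    ext i
    fin_cases i
    · simp
    · simp [h1]
  -- every root fixes the lifts
  have hroot : ∀ (c d : 𝒞), ∀ b ∈ d.1.1, ρ b (mc c) = mc c := by
    intro c d b hb
    rcases eq_or_ne d c with rfl | hdc
    · exact hquad d.1 d.2 b hb _ ((hF.data d).u_mem 1) _
    · set a := (hF.data c).u 1
      have hcomm : Commute b a := (hF.root_orth hdc).commute hinj hb ((hF.data c).u_mem 1)
      have hd : π (ρ b (e c) - e c) ∈ fix σ c.1.2 := by
        rw [map_sub, hL.equi]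
        intro l hl
        exact ((horth d.1 d.2 c.1 c.2 fun he1 => hdc (Subtype.ext he1)) b ((hF.data d).le hb) l hl
          (π (e c))).2
      have h1 := (hgrp c).2 _ hd a ((hF.data c).u_memL 1)
      rw [map_sub] at h1
      show ρ b (ρ a (e c) - e c) = ρ a (e c) - e c
      rw [map_sub, ← apply_mul, hcomm.eq, apply_mul]
      rw [sub_eq_iff_eq_add.1 h1]
      abel
  -- `t` lies in the join of the roots
  have htJ : t ∈ rootsJoin 𝒞 := by
    refine hC.pre.mem_join_of_commute ht fun c hc b hb => ?_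
    let S : Subgroup Q :=
      { carrier := {g | ∃ l ∈ c.2, ∀ y ∈ c.2, g * y * g⁻¹ = l * y * l⁻¹}
        one_mem' := ⟨1, one_mem _, fun y _ => rfl⟩
        mul_mem' := fun {g g'} ⟨l, hl, hg⟩ ⟨l', hl', hg'⟩ => ⟨l * l', mul_mem hl hl', fun y hy => by
          calc g * g' * y * (g * g')⁻¹ = g * (g' * y * g'⁻¹) * g⁻¹ := by group
            _ = g * (l' * y * l'⁻¹) * g⁻¹ := by rw [hg' y hy]
            _ = l * (l' * y * l'⁻¹) * l⁻¹ := hg _ (mul_mem (mul_mem hl' hy) (inv_mem hl'))
            _ = _ := by group⟩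
        inv_mem' := fun {g} ⟨l, hl, hg⟩ => ⟨l⁻¹, inv_mem hl, fun y hy => by
          have h1 := hg (l⁻¹ * y * l⁻¹⁻¹) (mul_mem (mul_mem (inv_mem hl) hy) (inv_mem (inv_mem hl)))
          rw [show l * (l⁻¹ * y * l⁻¹⁻¹) * l⁻¹ = y by group] at h1
          conv_lhs => rw [← h1]
          group⟩ }
    obtain ⟨l, hl, htl⟩ : t ∈ S := (hE.trans (iSup_le fun d g hg => by
      rcases eq_or_ne d.1 c with rfl | hne
      · exact ⟨g, hg, fun y _ => rfl⟩
      · refine ⟨1, one_mem _, fun y hy => ?_⟩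
        rw [((horth d.1 d.2 c hc hne).commute hinj hg hy).eq]
        group)) htE
    have hc2 : cj t c.2 = c.2 := by
      refine eq_of_le_of_card_ge ?_ (card_cj t c.2).ge
      rintro _ ⟨y, hy, rfl⟩
      rw [MulEquiv.coe_toMonoidHom, MulAut.conj_apply, htl y hy]
      exact mul_mem (mul_mem hl hy) (inv_mem hl)
    have himg : hC.pre.img ht ⟨c, hc⟩ = ⟨c, hc⟩ := by
      by_contra hne
      set d := hC.pre.img ht ⟨c, hc⟩
      have hd2 : d.1.2 = c.2 := hc2
      have ho := horth d.1 d.2 c hc fun he1 => hne (Subtype.ext he1)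
      rw [hd2] at ho
      refine (hF.data ⟨c, hc⟩).weyl_notMem (mem_normalizer_of_cj_le ?_)
      rintro _ ⟨b', hb', rfl⟩
      rw [MulEquiv.coe_toMonoidHom, MulAut.conj_apply,
        ← (ho.commute hinj ((hF.data ⟨c, hc⟩).le hb') (hF.data ⟨c, hc⟩).weyl_mem).eq,
        mul_inv_cancel_right]
      exact hb'
    have hc1 : cj t c.1 = c.1 := congrArg (fun d : 𝒞 => d.1.1) himg
    set D := hF.data ⟨c, hc⟩
    have hlN : l ∈ normalizer (c.1 : Set Q) := mem_normalizer_of_cj_le (by
      rintro _ ⟨y, hy, rfl⟩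
      rw [MulEquiv.coe_toMonoidHom, MulAut.conj_apply, ← htl y (D.le hy)]
      exact hc1.le (conj_mem_cj hy))
    set g := D.φ ⟨l, hl⟩ with hg
    have h10 : g.1 1 0 = 0 := D.apply_eq_zero_of_mem_normalizer hl hlN
    have hdet : g.1 0 0 * g.1 1 1 = 1 := by
      have := g.2
      rw [Matrix.det_fin_two, h10, mul_zero, sub_zero] at this
      exact this
    set a := g.1 0 0
    have hconj : ∀ s, t * D.u s * t⁻¹ = D.u (a * a * s) := fun s => by
      rw [htl _ (D.u_memL s)]
      have e1 : (⟨l, hl⟩ : c.2) * D.φ.symm (upperUni s) * (⟨l, hl⟩ : c.2)⁻¹ =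
          D.φ.symm (upperUni (a * a * s)) := by
        apply D.φ.injective
        rw [map_mul, map_mul, map_inv, MulEquiv.apply_symm_apply, MulEquiv.apply_symm_apply, ← hg,
          mul_inv_eq_iff_eq_mul]
        refine Subtype.ext ?_
        simp only [Matrix.SpecialLinearGroup.coe_mul, upperUni_val]
        ext i j
        fin_cases i <;> fin_cases j <;> simp [Matrix.mul_apply, Fin.sum_univ_two, h10]
        linear_combination -(a * s) * hdet
      exact congrArg Subtype.val e1
    obtain ⟨k, hk⟩ := hC.pre.exists_pow ht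
    have hpow : ∀ n : ℕ, t ^ n * D.u 1 * (t ^ n)⁻¹ = D.u ((a * a) ^ n) := by
      intro n
      induction n with
      | zero => simp
      | succ n ih =>
        rw [pow_succ' t n, show t * t ^ n * D.u 1 * (t * t ^ n)⁻¹ =
          t * (t ^ n * D.u 1 * (t ^ n)⁻¹) * t⁻¹ by group, ih, hconj, ← pow_succ']
    have ha : a * a = 1 := by
      haveI := D.charP hC.pre.exp
      have h1 := hpow (2 ^ k)
      rw [hk, one_mul, inv_one, mul_one] at h1
      have h2 : (a * a) ^ 2 ^ k = 1 := (D.u_injective h1).symm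
      have h3 : (a * a - 1) ^ 2 ^ k = 0 := by rw [sub_pow_char_pow, h2, one_pow, sub_self]
      exact sub_eq_zero.1 (eq_zero_of_pow_eq_zero h3)
    obtain ⟨s, rfl⟩ := D.exists_u hb
    have h4 := hconj s
    rw [ha, one_mul] at h4
    exact mul_inv_eq_iff_eq_mul.1 h4
  rw [map_sum]
  refine Finset.sum_congr rfl fun c _ => ?_
  let S : Subgroup Q :=
    { carrier := {g | ρ g (mc c) = mc c}
      one_mem' := apply_one ρ _
      mul_mem' := fun {p q} hp hq => by
        show ρ (p * q) (mc c) = mc c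
        rw [apply_mul, show ρ q (mc c) = mc c from hq]; exact hp
      inv_mem' := fun {p} hp => by
        show ρ p⁻¹ (mc c) = mc c
        conv_lhs => rw [← show ρ p (mc c) = mc c from hp]
        rw [apply_inv_apply] }
  exact (iSup_le (a := S) fun d b hb => hroot c d b hb) htJ

/-- A fixed lift. -/
theorem exists_fixed {T : Subgroup Q} {𝒞 : Set (Subgroup Q × Subgroup Q)}
    (hC : Config σ 2 T 𝒞) (hE : E ≤ grpsJoin 𝒞)
    (hquad : ∀ c ∈ 𝒞, ∀ a ∈ c.1, ∀ b ∈ c.1, ∀ u, ρ a (ρ b u - u) = ρ b u - u)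
    (h0 : ∀ w ∈ fix σ (grpsJoin 𝒞), w = 0) {v : V} (hv : v ∈ fix σ (rootsJoin 𝒞))
    (hne : ∀ c ∈ 𝒞, v ∉ fix σ c.2) {t : Q} (ht : t ∈ T) (htE : t ∈ E) :
    ∃ m, π m = v ∧ ρ t m = m := by
  by_cases hq : ∃ c ∈ 𝒞, Nat.card c.1 = 2
  · obtain ⟨c₀, hc₀, hq₀⟩ := hq
    refine hL.exists_fixed_two hC (fun c hc => ?_) h0 hv hne ht
    obtain ⟨s, -, hs, -⟩ := hC.trans c₀ hc₀ c hc
    rw [← hs, card_cj, hq₀]
  · push Not at hq
    exact hL.exists_fixed_large hC hq hE hquad h0 hv ht htE

end Lift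

end CfsgLib.Qrc85
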