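import Cfsg.Agent.Qrc85.Weight

/-!
# `V ≰ O₂(K)`: the cubic parameter is at most two
-/

set_option autoImplicit false
set_option linter.style.haveILetI false
set_option linter.unusedSectionVars false

namespace CfsgLib.Qrc85

open Subgroup Cfsg CfsgLib.FFCells CfsgLib.PushParabolic85
open scoped commutatorElement

variable {G : Type*} [Group G] [Finite G] {T : Sylow 2 G} {M M₀ H V R K : Subgroup G}

theorem mem_centralizer_of_commutator_eq_one {C : Subgroup G} {x : G}
    (h : ∀ c ∈ C, ⁅x, c⁆ = 1) : x ∈ centralizer (C : Set G) :=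
  mem_centralizer_iff.2 fun c hc => (commutatorElement_eq_one_iff_mul_comm.1 (h c hc)).symm

theorem cubic_of_not_le (h : Hyp T M M₀ H V R) (m : Min T M H R K) (hVP : ¬ V ≤ pCoreOf 2 K) :
    ¬ V ≤ pCoreOf 2 H ∧ CubicParamLE M₀ V 2 := by
  classical
  haveI : Fact (Nat.Prime 2) := ⟨Nat.prime_two⟩
  refine ⟨fun hQ => hVP (hQ.trans (m.Q_le_P h)), ?_⟩
  set X := LocalStructure.pResOf 2 K
  set P := pCoreOf 2 K with hP
  have hXK : X ≤ K := LocalStructure.pResOf_le K
  have hPK : P ≤ K := LocalStructure.pCoreOf_le K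
  have hPp : IsPGroup 2 P := LocalStructure.pCoreOf_isPGroup K
  have hKP : K ≤ normalizer (P : Set G) := LocalStructure.le_normalizer_pCoreOf K
  have hPT : P ≤ (T : Subgroup G) := m.P_le_S.trans inf_le_left
  have hVK : V ≤ K := h.V_R.trans m.R_K
  have hPV : P ≤ normalizer (V : Set G) := hPT.trans h.T_normV
  set F := V ⊓ P with hF
  have hFP : F ≤ P := inf_le_right
  have hPF : P ≤ normalizer (F : Set G) := fun p hp => mem_normalizer_of_cj_le
    (le_inf ((cj_mono inf_le_left).trans (cj_eq_self.2 (hPV hp)).le)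
      ((cj_mono inf_le_right).trans (cj_le_of_mem hp)))
  have hSF : (T : Subgroup G) ⊓ K ≤ normalizer (F : Set G) := fun s hs => mem_normalizer_of_cj_le
    (le_inf ((cj_mono inf_le_left).trans (cj_eq_self.2 (h.T_normV hs.1)).le)
      ((cj_mono inf_le_right).trans (cj_eq_self.2 (hKP hs.2)).le))
  have hVPF : ⁅P, V⁆ ≤ F := le_inf
    ((commutator_comm P V).le.trans (Coprime.commutator_le_of_le_normalizer hPV))
    (Coprime.commutator_le_of_le_normalizer (hVK.trans hKP))
  have hVPk : ∀ k ∈ K, ∀ p ∈ P, ∀ e ∈ cj k V, ⁅p, e⁆ ∈ cj k F := fun k hk p hp e he => by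
    obtain ⟨v, hv, rfl⟩ := he
    rw [MulEquiv.coe_toMonoidHom, MulAut.conj_apply]
    have hp' : k⁻¹ * p * k ∈ P := by
      simpa using (mem_normalizer_iff.1 (hKP (inv_mem hk)) p).1 hp
    rw [show ⁅p, k * v * k⁻¹⁆ = k * ⁅k⁻¹ * p * k, v⁆ * k⁻¹ by
      simp only [commutatorElement_def]; group]
    exact conj_mem_cj (hVPF (commutator_mem_commutator hp' hv))
  -- `D`
  set D : Subgroup G := ⨆ k : ↥K, cj (k : G) F with hD
  have hkP : ∀ k ∈ K, cj k F ≤ P := fun k hk => (cj_mono hFP).trans (cj_eq_self.2 (hKP hk)).le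
  have hDP : D ≤ P := iSup_le fun k => hkP k k.2
  have hkD : ∀ k ∈ K, cj k F ≤ D := fun k hk => le_iSup (fun k : ↥K => cj (k : G) F) ⟨k, hk⟩
  have hFD : F ≤ D := (cj_one F).ge.trans (hkD 1 (one_mem _))
  have hDK : D ≤ K := hDP.trans hPK
  have hKD : K ≤ normalizer (D : Set G) := fun g hg => mem_normalizer_of_cj_le (by
    rw [hD, cj, Subgroup.map_iSup]
    exact iSup_le fun k => (cj_cj g (k : G) F).le.trans (hkD _ (mul_mem hg k.2)))
  have hDp : IsPGroup 2 D := hPp.to_le hDP
  -- `G₁`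
  set G₁ : Subgroup G := ⨆ k : ↥K, cj (k : G) V with hG₁
  have hkV : ∀ k ∈ K, cj k V ≤ G₁ := fun k hk => le_iSup (fun k : ↥K => cj (k : G) V) ⟨k, hk⟩
  have hG₁K : G₁ ≤ K := iSup_le fun k => (cj_mono hVK).trans (cj_le_of_mem k.2)
  have hKG₁ : K ≤ normalizer (G₁ : Set G) := fun g hg => mem_normalizer_of_cj_le (by
    rw [hG₁, cj, Subgroup.map_iSup]
    exact iSup_le fun k => (cj_cj g (k : G) V).le.trans (hkV _ (mul_mem hg k.2)))
  have hG₁M : ¬ G₁ ≤ M := fun hle => hVP fun v hv => m.inf_normal_le h hG₁K hKG₁ hle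
    (mem_inf.2 ⟨h.V_T hv, hkV 1 (one_mem _) ((cj_one V).ge hv)⟩)
  have hout : ∃ y ∈ K, ¬ cj y V ≤ M := by
    by_contra hno
    push Not at hno
    exact hG₁M (iSup_le fun k => hno k k.2)
  -- `O²(K)` moves `F`
  have hXF : ¬ X ≤ centralizer (F : Set G) := fun hc => by
    have hKF : K ≤ normalizer (F : Set G) :=
      m.sup_eq.ge.trans (sup_le (hc.trans (centralizer_le_normalizer _)) hSF)
    have hG₁F : G₁ ≤ centMod P F := iSup_le fun k e he => mem_centMod.2
      ⟨hKF ((cj_mono hVK).trans (cj_le_of_mem k.2) he), fun p hp => by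
        have h1 := hVPk k k.2 p hp e he
        rwa [cj_eq_self.2 (hKF k.2)] at h1⟩
    have hX1 := (m.pResOf_le_of h hG₁K hKG₁ hG₁M).trans hG₁F
    refine m.notM (m.sup_eq.ge.trans (sup_le ?_ (inf_le_left.trans h.T_M)))
    refine LocalStructure.pResOf_le_of_forall fun x hx hxc => ?_
    have hxX : x ∈ X := LocalStructure.mem_pResOf hx hxc
    have hxP : x ∈ centralizer (P : Set G) :=
      BlockNormal85.coprime_centralizes_of_series hPp hxc (hKP hx) (P := F) (V := ⊥)
        ((commutator_mono le_rfl (zpowers_le.2 hxX)).trans (commutator_le_of_le_centMod hX1))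
        (le_bot_iff.2 (commutator_eq_bot_iff_le_centralizer.2
          (le_centralizer_iff.1 ((zpowers_le.2 hxX).trans hc))))
        (commutator_bot_left _)
    rw [LocalStructure.eq_one_of_coprime_of_mem hPp (m.charP h (mem_inf.2 ⟨hx, hxP⟩)) hxc]
    exact one_mem _
  -- outside `M` the intersections are centralised by `O²(K)`
  have hinter : ∀ k ∈ K, ¬ cj k V ≤ M → F ⊓ cj k F ≤ centralizer (X : Set G) := by
    intro k hk hkM
    set C := D ⊓ centralizer (X : Set G)
    have hKC : K ≤ normalizer (C : Set G) := fun g hg => mem_normalizer_of_cj_le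
      (le_inf ((cj_mono inf_le_left).trans (cj_eq_self.2 (hKD hg)).le)
        ((cj_mono inf_le_right).trans
          (cj_eq_self.2 (CharPLocal.normalizer_le_normalizer_centralizer _ (m.K_normX hg))).le))
    set N₁ := F ⊓ cj k F
    have hPN₁ : P ≤ normalizer (N₁ : Set G) := fun p hp => mem_normalizer_of_cj_le (by
      refine le_inf ((cj_mono inf_le_left).trans (cj_eq_self.2 (hPF hp)).le) ?_
      refine (cj_mono inf_le_right).trans (le_of_eq ?_)
      have hp' : k⁻¹ * p * k ∈ P := by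
        simpa using (mem_normalizer_iff.1 (hKP (inv_mem hk)) p).1 hp
      have e := congrArg (cj k) (cj_eq_self.2 (hPF hp'))
      rw [cj_cj] at e
      rw [cj_cj]
      simpa [mul_assoc] using e)
    refine le_trans ?_ (inf_le_right : C ≤ _)
    by_contra hN
    obtain ⟨L, ⟨hLN, hPL, hLC⟩, hLmin⟩ := Set.exists_min_image
      {L : Subgroup G | L ≤ N₁ ∧ P ≤ normalizer (L : Set G) ∧ ¬ L ≤ C} (fun L => Nat.card L)
      (Set.toFinite _) ⟨N₁, le_rfl, hPN₁, hN⟩
    have hLP : ⁅L, P⁆ ≤ C := by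
      by_contra hc
      have hle : ⁅L, P⁆ ≤ L := Coprime.commutator_le_of_le_normalizer hPL
      have hn : P ≤ normalizer ((⁅L, P⁆ : Subgroup G) : Set G) := fun p hp =>
        mem_normalizer_of_cj_le (by
          rw [cj, map_commutator]
          exact commutator_mono (cj_eq_self.2 (hPL hp)).le (cj_le_of_mem hp))
      have e := eq_of_le_of_card_ge hle (hLmin _ ⟨hle.trans hLN, hn, hc⟩)
      have hb := LocalStructure.le_of_le_sup_commutator_isPGroup hPp bot_le
        (hLN.trans (inf_le_left.trans hFP))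
        (by rw [normalizer_eq_top]; exact le_top)
        (e.ge.trans le_sup_right : L ≤ ⊥ ⊔ ⁅L, P⁆)
      exact hLC (hb.trans bot_le)
    obtain ⟨z, hzL, hzC⟩ := SetLike.not_le_iff_exists.1 hLC
    have hz : z ∈ N₁ := hLN hzL
    let K'' : Subgroup G :=
      { carrier := {g | g ∈ K ∧ ⁅g, z⁆ ∈ C}
        one_mem' := ⟨one_mem _, by simp [commutatorElement_def]⟩
        mul_mem' := fun {g g'} hg hg' => ⟨mul_mem hg.1 hg'.1, by
          rw [show ⁅g * g', z⁆ = g * ⁅g', z⁆ * g⁻¹ * ⁅g, z⁆ by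
            simp only [commutatorElement_def]; group]
          exact mul_mem ((mem_normalizer_iff.1 (hKC hg.1) _).1 hg'.2) hg.2⟩
        inv_mem' := fun {g} hg => ⟨inv_mem hg.1, by
          rw [show ⁅g⁻¹, z⁆ = g⁻¹ * ⁅g, z⁆⁻¹ * g⁻¹⁻¹ by
            simp only [commutatorElement_def]; group]
          exact (mem_normalizer_iff.1 (hKC (inv_mem hg.1)) _).1 (inv_mem hg.2)⟩ }
    have hK'' : K'' = K := by
      refine m.eq_of (fun r hr => ⟨m.R_K hr, ?_⟩) (fun q hq => ⟨m.Q_K hq, ?_⟩) (fun g hg => hg.1)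
        fun hle => hkM fun e he => hle ⟨(cj_mono hVK).trans (cj_le_of_mem hk) he, ?_⟩
      · rw [commutatorElement_eq_one_iff_mul_comm.2
          (mem_centralizer_iff.1 (h.R_C hr) z hz.1.1).symm]
        exact one_mem _
      · exact commutatorElement_mem_swap (hLP (commutator_mem_commutator hzL (m.Q_le_P h hq)))
      · obtain ⟨v, hv, rfl⟩ := he
        obtain ⟨f, hf, hfz⟩ := hz.2
        rw [← hfz, ← map_commutatorElement, commutatorElement_eq_one_iff_mul_comm.2
          (le_centralizer_iff_isMulCommutative.2 h.elem.1 hf.1 v hv), map_one]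
        exact one_mem _
    refine hzC (mem_inf.2 ⟨hFD hz.1, mem_centralizer_iff.2 fun x hx => ?_⟩)
    have hXz : X ≤ centralizer ({z} : Set G) := LocalStructure.pResOf_le_of_forall fun x hx hxc => by
      obtain ⟨-, hxz⟩ := hK''.ge hx
      obtain ⟨j, hj⟩ := hDp ⟨_, hxz.1⟩
      exact mem_centralizer_singleton_iff.2 (LocalStructure.commute_of_stab hxc
        (by simpa using congrArg Subtype.val hj)
        (mem_centralizer_iff.1 hxz.2 x (LocalStructure.mem_pResOf hx hxc))).eq
    exact mem_centralizer_singleton_iff.1 (hXz hx)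
  -- the conjugates outside `M` suffice
  obtain ⟨y₀, hy₀, hy₀M⟩ := hout
  set Do : Subgroup G := ⨆ k : {k : ↥K // ¬ cj (k : G) V ≤ M}, cj ((k : ↥K) : G) F with hDo
  have hkDo : ∀ k ∈ K, ¬ cj k V ≤ M → cj k F ≤ Do := fun k hk hkM =>
    le_iSup (fun k : {k : ↥K // ¬ cj (k : G) V ≤ M} => cj ((k : ↥K) : G) F) ⟨⟨k, hk⟩, hkM⟩
  have hKDo : K ≤ normalizer (Do : Set G) := by
    have hM' : K ⊓ M ≤ normalizer (Do : Set G) := fun g hg => mem_normalizer_of_cj_le (by
      rw [hDo, cj, Subgroup.map_iSup]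
      refine iSup_le fun k => (cj_cj g ((k : ↥K) : G) F).le.trans
        (hkDo _ (mul_mem hg.1 (k : ↥K).2) fun hle => k.2 ?_)
      rw [← cj_cj, cj_le_iff] at hle
      exact hle.trans (cj_le_of_mem (inv_mem hg.2)))
    have hy : cj y₀ V ≤ normalizer (Do : Set G) := fun e he => mem_normalizer_of_cj_le (by
      rw [hDo, cj, Subgroup.map_iSup]
      refine iSup_le fun k => ?_
      rintro _ ⟨f, hf, rfl⟩
      rw [MulEquiv.coe_toMonoidHom, MulAut.conj_apply,
        show e * f * e⁻¹ = ⁅f, e⁆⁻¹ * f by simp only [commutatorElement_def]; group]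
      exact mul_mem (inv_mem (hkDo y₀ hy₀ hy₀M (hVPk y₀ hy₀ f (hkP _ (k : ↥K).2 hf) e he)))
        (hkDo _ (k : ↥K).2 k.2 hf))
    have e : K ⊓ normalizer (Do : Set G) = K := by
      refine m.eq_of (le_inf m.R_K ((le_inf m.R_K (h.R_T.trans h.T_M)).trans hM'))
        (le_inf m.Q_K ((le_inf m.Q_K (h.Q_T.trans h.T_M)).trans hM')) inf_le_left
        fun hle => hy₀M ((le_inf ((cj_mono hVK).trans (cj_le_of_mem hy₀)) hy).trans hle)
    exact e.ge.trans inf_le_right
  have hDDo : D ≤ Do := iSup_le fun k => by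
    rw [show (k : G) = ((k : G) * y₀⁻¹) * y₀ by group, ← cj_cj]
    exact (cj_mono (hkDo y₀ hy₀ hy₀M)).trans
      (cj_eq_self.2 (hKDo (mul_mem k.2 (inv_mem hy₀)))).le
  -- the centre
  set Zc := D ⊓ centralizer (X : Set G) ⊓ centralizer (V : Set G) ⊓ centralizer (D : Set G) with hZc
  have hKZ : K ≤ normalizer (Zc : Set G) := m.sup_eq.ge.trans (sup_le
    ((le_centralizer_iff.1
      ((inf_le_left.trans inf_le_left).trans inf_le_right : Zc ≤ centralizer (X : Set G))).trans
      (centralizer_le_normalizer _))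
    fun s hs => mem_normalizer_of_cj_le (le_inf (le_inf (le_inf
      ((cj_mono ((inf_le_left.trans inf_le_left).trans inf_le_left)).trans
        (cj_eq_self.2 (hKD hs.2)).le)
      ((cj_mono ((inf_le_left.trans inf_le_left).trans inf_le_right)).trans
        (cj_eq_self.2 (CharPLocal.normalizer_le_normalizer_centralizer _ (m.K_normX hs.2))).le))
      ((cj_mono (inf_le_left.trans inf_le_right)).trans
        (cj_eq_self.2 (CharPLocal.normalizer_le_normalizer_centralizer _ (h.T_normV hs.1))).le))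
      ((cj_mono inf_le_right).trans
        (cj_eq_self.2 (CharPLocal.normalizer_le_normalizer_centralizer _ (hKD hs.2))).le)))
  have hinterZ : ∀ k ∈ K, ¬ cj k V ≤ M → F ⊓ cj k F ≤ Zc := fun k hk hkM z hz => by
    have hzX := hinter k hk hkM hz
    refine mem_inf.2 ⟨mem_inf.2 ⟨mem_inf.2 ⟨hFD hz.1, hzX⟩,
      le_centralizer_iff_isMulCommutative.2 h.elem.1 hz.1.1⟩, ?_⟩
    rw [← SetLike.mem_coe]
    have hD' : D ≤ centralizer ({z} : Set G) := iSup_le fun g e he => by
      obtain ⟨a, ha, b, hb, hab⟩ := exists_eq_mul (inf_le_right.trans m.K_normX) (m.sup_eq.ge g.2)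
      rw [hab, ← cj_cj, cj_eq_self.2 (hSF hb)] at he
      obtain ⟨f, hf, rfl⟩ := he
      have hza : a * z = z * a := mem_centralizer_iff.1 hzX a ha
      have hzf : z * f = f * z :=
        (le_centralizer_iff_isMulCommutative.2 h.elem.1 hz.1.1 f hf.1).symm
      refine mem_centralizer_singleton_iff.2 ?_
      rw [MulEquiv.coe_toMonoidHom, MulAut.conj_apply]
      have e1 : z * (a * f * a⁻¹) = a * (z * f) * a⁻¹ := by
        rw [← mul_assoc, ← mul_assoc, ← hza]; group
      have e2 : a * f * a⁻¹ * z = a * (f * z) * a⁻¹ := by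
        have h3 : a⁻¹ * z = z * a⁻¹ := by
          rw [eq_mul_inv_iff_mul_eq, mul_assoc, ← hza, inv_mul_cancel_left]
        rw [mul_assoc (a * f), h3]; group
      rw [e1, e2, hzf]
    exact mem_centralizer_iff.2 fun d hd => mem_centralizer_singleton_iff.1 (hD' hd)
  have hcj : ∀ k ∈ K, ∀ a ∈ D, k⁻¹ * a * k ∈ D := fun k hk a ha => by
    simpa using (mem_normalizer_iff.1 (hKD (inv_mem hk)) a).1 ha
  have hDD : ∀ a ∈ D, ∀ b ∈ D, ⁅a, b⁆ ∈ Zc := by
    have h1 : D ≤ centMod F Zc := hDDo.trans (iSup_le fun k => le_centMod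
      ((hkP _ (k : ↥K).2).trans (hPK.trans hKZ)) (le_trans (le_inf
        (Coprime.commutator_le_of_le_normalizer ((hkP _ (k : ↥K).2).trans hPF))
        ((commutator_comm _ _).le.trans (Coprime.commutator_le_of_le_normalizer
          (fun f hf => mem_normalizer_of_cj_le (by
            have hf' : ((k : ↥K) : G)⁻¹ * f * ((k : ↥K) : G) ∈ P := by
              simpa using (mem_normalizer_iff.1 (hKP (inv_mem (k : ↥K).2)) f).1 (hFP hf)
            have e := congrArg (cj ((k : ↥K) : G)) (cj_eq_self.2 (hPF hf'))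
            rw [cj_cj] at e
            rw [cj_cj]
            exact le_of_eq (by simpa [mul_assoc] using e))))))
        (hinterZ _ (k : ↥K).2 k.2)))
    intro a ha
    have h2 : D ≤ centMod D Zc := iSup_le fun k e he => by
      obtain ⟨f, hf, rfl⟩ := he
      refine mem_centMod.2 ⟨hKZ (hDK (hkD _ k.2 ⟨f, hf, rfl⟩)), fun c hc => ?_⟩
      rw [MulEquiv.coe_toMonoidHom, MulAut.conj_apply,
        show ⁅c, (k : G) * f * (k : G)⁻¹⁆ = (k : G) * ⁅(k : G)⁻¹ * c * k, f⁆ * (k : G)⁻¹ by
          simp only [commutatorElement_def]; group]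
      exact (mem_normalizer_iff.1 (hKZ k.2) _).1
        (commutatorElement_mem_swap ((mem_centMod.1 (h1 (hcj k k.2 c hc))).2 f hf))
    exact fun b hb => (mem_centMod.1 (h2 hb)).2 a ha
  have hDsq : ∀ d ∈ D, d * d ∈ Zc := by
    let D₂ : Subgroup G :=
      { carrier := {d | d ∈ D ∧ d * d ∈ Zc}
        one_mem' := ⟨one_mem _, by simp [one_mem]⟩
        mul_mem' := fun {a b} ha hb => ⟨mul_mem ha.1 hb.1, by
          rw [show a * b * (a * b) = a * a * ⁅a⁻¹, b⁆ * (b * b) by
            simp only [commutatorElement_def]; group]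
          exact mul_mem (mul_mem ha.2 (hDD a⁻¹ (inv_mem ha.1) b hb.1)) hb.2⟩
        inv_mem' := fun {a} ha => ⟨inv_mem ha.1, by
          rw [← mul_inv_rev]; exact inv_mem ha.2⟩ }
    have hle : D ≤ D₂ := iSup_le fun k e he => by
      refine ⟨hkD _ k.2 he, ?_⟩
      obtain ⟨f, hf, rfl⟩ := he
      rw [← map_mul, ← pow_two f, h.elem.2 f hf.1, map_one]
      exact one_mem _
    exact fun d hd => (hle hd).2
  -- Chermak–Delgado
  let μ : Subgroup G → ℕ := fun Y => Nat.card Y * Nat.card ↥(D ⊓ centralizer (Y : Set G))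
  obtain ⟨B₀, hB₀, hB₀max⟩ := Set.exists_max_image {Y : Subgroup G | Y ≤ D} μ (Set.toFinite _)
    ⟨D, le_refl D⟩
  obtain ⟨B, ⟨hBD, hBμ⟩, hBmax⟩ := Set.exists_max_image
    {Y : Subgroup G | Y ≤ D ∧ μ Y = μ B₀} (fun Y => Nat.card Y) (Set.toFinite _) ⟨B₀, hB₀, rfl⟩
  have hlarge : ∀ Y : Subgroup G, Y ≤ D → μ B₀ ≤ μ Y → Y ≤ B := fun Y hY hYμ => by
    have h1 := CfsgLib.LocalEvenBasic.card_mul_le_inf_mul_sup Y B
    have h2 := CfsgLib.LocalEvenBasic.card_mul_le_inf_mul_sup (D ⊓ centralizer (Y : Set G))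
      (D ⊓ centralizer (B : Set G))
    have h3 : D ⊓ centralizer (Y : Set G) ⊓ (D ⊓ centralizer (B : Set G)) ≤
        D ⊓ centralizer ((Y ⊔ B : Subgroup G) : Set G) := by
      rw [PLocal.centralizer_sup]
      exact le_inf (inf_le_left.trans inf_le_left)
        (le_inf (inf_le_left.trans inf_le_right) (inf_le_right.trans inf_le_right))
    have h4 : D ⊓ centralizer (Y : Set G) ⊔ (D ⊓ centralizer (B : Set G)) ≤
        D ⊓ centralizer ((Y ⊓ B : Subgroup G) : Set G) :=
      sup_le (inf_le_inf_left _ (centralizer_le inf_le_left))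
        (inf_le_inf_left _ (centralizer_le inf_le_right))
    have h5 : μ Y * μ B ≤ μ (Y ⊔ B) * μ (Y ⊓ B) := by
      calc μ Y * μ B = (Nat.card Y * Nat.card B) * (Nat.card ↥(D ⊓ centralizer (Y : Set G)) *
            Nat.card ↥(D ⊓ centralizer (B : Set G))) := by simp only [μ]; ring
        _ ≤ (Nat.card ↥(Y ⊓ B) * Nat.card ↥(Y ⊔ B)) *
            (Nat.card ↥(D ⊓ centralizer ((Y ⊔ B : Subgroup G) : Set G)) *
              Nat.card ↥(D ⊓ centralizer ((Y ⊓ B : Subgroup G) : Set G))) :=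
          Nat.mul_le_mul h1 (h2.trans (Nat.mul_le_mul (card_le_of_le h3) (card_le_of_le h4)))
        _ = _ := by simp only [μ]; ring
    have h6 : μ (Y ⊓ B) ≤ μ B₀ := hB₀max _ (show Y ⊓ B ≤ D from inf_le_left.trans hY)
    have hpos : 0 < μ B₀ := Nat.mul_pos Nat.card_pos Nat.card_pos
    have h7 : μ B₀ * μ B₀ ≤ μ (Y ⊔ B) * μ B₀ := by
      refine le_trans ?_ (h5.trans (Nat.mul_le_mul_left _ h6))
      rw [hBμ]
      exact Nat.mul_le_mul_right _ hYμ
    have h8 : μ (Y ⊔ B) = μ B₀ := le_antisymm (hB₀max _ (show Y ⊔ B ≤ D from sup_le hY hBD))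
      (Nat.le_of_mul_le_mul_right h7 hpos)
    have h9 := eq_of_le_of_card_ge (le_sup_right : B ≤ Y ⊔ B) (hBmax _ ⟨sup_le hY hBD, h8⟩)
    exact le_sup_left.trans h9.ge
  have hKB : K ≤ normalizer (B : Set G) := fun k hk => mem_normalizer_of_cj_le (by
    refine hlarge _ ((cj_mono hBD).trans (cj_eq_self.2 (hKD hk)).le) ?_
    rw [← hBμ]
    refine le_of_eq ?_
    simp only [μ]
    rw [card_cj]
    congr 1
    conv_rhs => rw [← cj_eq_self.2 (hKD hk)]
    rw [← PLocal.map_inf_centralizer (MulAut.conj k).injective]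
    exact (card_cj k _).symm)
  have hCB : D ⊓ centralizer (B : Set G) ≤ B := hlarge _ inf_le_left (by
    rw [← hBμ]
    simp only [μ]
    rw [Nat.mul_comm]
    exact Nat.mul_le_mul_left _ (card_le_of_le (le_inf hBD (le_centralizer_iff.1 inf_le_right))))
  have hBP : B ≤ P := hBD.trans hDP
  have hmovB : ∃ x ∈ X, ∃ b ∈ B, ⁅x, b⁆ ∉ (⊥ : Subgroup G) := by
    by_contra hno
    push Not at hno
    have hXB : X ≤ centralizer (B : Set G) := fun x hx =>
      mem_centralizer_of_commutator_eq_one fun b hb => mem_bot.1 (hno x hx b hb)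
    refine hXF (LocalStructure.pResOf_le_of_forall fun x hx hxc => ?_)
    have hxX : x ∈ X := LocalStructure.mem_pResOf hx hxc
    have hXBbot : ⁅X, B⁆ = ⊥ := commutator_eq_bot_iff_le_centralizer.2 hXB
    have h1 : ⁅⁅D, X⁆, B⁆ = ⊥ := by
      refine commutator_commutator_eq_bot_of_rotate (by rw [hXBbot, commutator_bot_left]) ?_
      rw [← le_bot_iff, ← hXBbot, commutator_comm X B]
      exact commutator_mono (Coprime.commutator_le_of_le_normalizer (hDK.trans hKB)) le_rfl
    have h2 : ⁅D, X⁆ ≤ B := le_trans (le_inf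
      (Coprime.commutator_le_of_le_normalizer (hXK.trans hKD))
      (commutator_eq_bot_iff_le_centralizer.1 h1)) hCB
    exact centralizer_le (SetLike.coe_subset_coe.2 hFD)
      (BlockNormal85.coprime_centralizes_of_series hDp hxc (hKD hx) (P := B) (V := ⊥)
        ((commutator_mono le_rfl (zpowers_le.2 hxX)).trans h2)
        (le_bot_iff.2 (commutator_eq_bot_iff_le_centralizer.2
          (le_centralizer_iff.1 ((zpowers_le.2 hxX).trans hXB))))
        (commutator_bot_left _))
  -- the two indices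
  set e := (centralizer (V : Set G)).relIndex B
  have hfe : (F ⊓ centralizer (B : Set G)).relIndex F ≤ e := by
    set P₁ := B ⊓ centralizer (F : Set G)
    set CB := D ⊓ centralizer (B : Set G)
    have hsup : F ⊔ CB ≤ D ⊓ centralizer (P₁ : Set G) := sup_le
      (le_inf hFD (le_centralizer_iff.1 inf_le_right))
      (le_inf inf_le_left (inf_le_right.trans (centralizer_le inf_le_left)))
    have hprod := PLocal.card_sup_mul_card_inf
      (show CB ≤ normalizer (F : Set G) from (inf_le_left.trans hDP).trans hPF)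
    rw [sup_comm, inf_comm] at hprod
    have hFC : F ⊓ CB = F ⊓ centralizer (B : Set G) := by
      rw [← inf_assoc, inf_eq_left.2 hFD]
    rw [hFC] at hprod
    have h1 : μ P₁ ≤ μ B := (hB₀max _ (show P₁ ≤ D from inf_le_left.trans hBD)).trans hBμ.ge
    have h2 : Nat.card P₁ * Nat.card F ≤
        Nat.card B * Nat.card ↥(F ⊓ centralizer (B : Set G)) := by
      refine Nat.le_of_mul_le_mul_right (c := Nat.card CB) ?_ Nat.card_pos
      calc Nat.card P₁ * Nat.card F * Nat.card CB
          = Nat.card P₁ * Nat.card ↥(F ⊔ CB) * Nat.card ↥(F ⊓ centralizer (B : Set G)) := by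
            rw [mul_assoc, mul_comm (Nat.card F), ← hprod, ← mul_assoc]
        _ ≤ μ P₁ * Nat.card ↥(F ⊓ centralizer (B : Set G)) :=
            Nat.mul_le_mul_right _ (Nat.mul_le_mul_left _ (card_le_of_le hsup))
        _ ≤ μ B * Nat.card ↥(F ⊓ centralizer (B : Set G)) := Nat.mul_le_mul_right _ h1
        _ = _ := by simp only [μ, CB]; ring
    exact (relIndex_le_of_card h2).trans (Nat.le_of_dvd
      (Nat.pos_of_ne_zero Subgroup.index_ne_zero_of_finite)
      (relIndex_dvd_of_le_left _ (centralizer_le (SetLike.coe_subset_coe.2 inf_le_left))))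
  have hae : P.relIndex V ≤ e := by
    have h1 := relIndex_le_of_moved h m (B₁ := B) (B₂ := ⊥) (D := B ⊓ centralizer (V : Set G))
      bot_le hBP hKB (by rw [normalizer_eq_top]; exact le_top) hmovB
      (le_inf h.V_T hVK) h.elem fun b hb a ha => mem_bot.2
        (commutatorElement_eq_one_iff_mul_comm.2 (mem_centralizer_iff.1 hb.2 a ha))
    rwa [inf_relIndex_left] at h1
  refine ⟨B, hBP.trans (hPT.trans h.T_M₀), ⟨fun hBV => hVP ?_, fun b hb => ?_, fun b hb b' hb' => ?_⟩,
    ?_, ?_⟩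
  · rw [← relIndex_eq_one]
    refine le_antisymm (hae.trans (relIndex_eq_one.2 hBV).le) ?_
    exact Nat.one_le_iff_ne_zero.2 Subgroup.index_ne_zero_of_finite
  · rw [pow_two]
    exact (mem_inf.1 (mem_inf.1 (hDsq b (hBD hb))).1).2
  · rw [← commutatorElement_def]
    exact (mem_inf.1 (mem_inf.1 (hDD b (hBD hb) b' (hBD hb'))).1).2
  · rw [eq_bot_iff]
    calc ⁅⁅⁅V, B⁆, B⁆, B⁆ ≤ ⁅⁅F, B⁆, B⁆ := by
          refine commutator_mono (commutator_mono ?_ le_rfl) le_rfl
          rw [commutator_comm]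
          exact (commutator_mono hBP le_rfl).trans hVPF
      _ ≤ ⁅Zc, B⁆ := commutator_mono (commutator_le.2 fun f hf b hb => hDD f (hFD hf) b (hBD hb))
          le_rfl
      _ ≤ ⊥ := le_bot_iff.2 (commutator_eq_bot_iff_le_centralizer.2
          (inf_le_right.trans (centralizer_le (SetLike.coe_subset_coe.2 hBD))))
  · rw [pow_two]
    calc (V ⊓ centralizer (B : Set G)).relIndex V
        ≤ (F ⊓ centralizer (B : Set G)).relIndex V := Nat.le_of_dvd
          (Nat.pos_of_ne_zero Subgroup.index_ne_zero_of_finite)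
          (relIndex_dvd_of_le_left _ (inf_le_inf_right _ inf_le_left))
      _ = (F ⊓ centralizer (B : Set G)).relIndex F * F.relIndex V :=
          (relIndex_mul_relIndex _ _ _ inf_le_left inf_le_left).symm
      _ ≤ e * e := Nat.mul_le_mul hfe (by rw [hF, inf_relIndex_left]; exact hae)

end CfsgLib.Qrc85
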