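import Cfsg.Agent.FFBlocks.Setup
import Cfsg.Agent.FFBlocks.Local
import Cfsg.Agent.LocalCStar50.PMod

/-!
# The faithful image of a `2`-minimal group on a module killed by its core, and sections as modules
-/

set_option autoImplicit false
set_option linter.style.haveILetI false
set_option linter.unusedSectionVars false

namespace CfsgLib.Qrc85

open Subgroup CfsgLib.SL2Recognition CfsgLib.FFCells
open scoped commutatorElement

section Module

variable {P V : Type*} [Group P] [AddCommGroup V]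

/-- The hypotheses on the module. -/
structure ModHyp (σ : P →* AddMonoid.End V) (S : Sylow 2 P) (M : Subgroup P) : Prop where
  exp : ∀ v : V, 2 • v = 0
  pmin : PMin S M
  core : ∀ g ∈ Cfsg.pCore 2 P, σ g = 1
  normal_le : ∀ N : Subgroup P, N.Normal → N ≤ M → (S : Subgroup P) ⊓ N ≤ Cfsg.pCore 2 P
  ker_le : σ.ker ≤ M

/-- The image. -/
abbrev KImg (σ : P →* AddMonoid.End V) := P ⧸ σ.ker

/-- The projection. -/
abbrev kProj (σ : P →* AddMonoid.End V) : P →* KImg σ := QuotientGroup.mk' σ.ker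

/-- The faithful action of the image. -/
def kFaith (σ : P →* AddMonoid.End V) : KImg σ →* AddMonoid.End V :=
  QuotientGroup.lift σ.ker σ le_rfl

theorem kFaith_proj (σ : P →* AddMonoid.End V) (g : P) : kFaith σ (kProj σ g) = σ g := rfl

theorem kFaith_injective (σ : P →* AddMonoid.End V) : Function.Injective (kFaith σ) := by
  rw [injective_iff_map_eq_one]
  intro x
  induction x using QuotientGroup.induction_on with
  | _ g => exact fun hg => (QuotientGroup.eq_one_iff g).2 (MonoidHom.mem_ker.2 hg)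

theorem fix_map (σ : P →* AddMonoid.End V) (Y : Subgroup P) :
    fix (kFaith σ) (Y.map (kProj σ)) = fix σ Y := by
  refine AddSubgroup.ext fun v => ⟨fun hv y hy => hv _ (mem_map_of_mem _ hy), ?_⟩
  rintro hv _ ⟨y, hy, rfl⟩
  exact hv y hy

namespace ModHyp

variable [Finite P] [Finite V] {σ : P →* AddMonoid.End V} {S : Sylow 2 P} {M : Subgroup P}
  (h : ModHyp σ S M)
include h

theorem core_le_ker : Cfsg.pCore 2 P ≤ σ.ker := fun g hg => MonoidHom.mem_ker.2 (h.core g hg)

theorem inf_ker_le : (S : Subgroup P) ⊓ σ.ker ≤ Cfsg.pCore 2 P :=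
  h.normal_le _ inferInstance h.ker_le

theorem exists_setting :
    ∃ S' : Sylow 2 (KImg σ), (S' : Subgroup (KImg σ)) = (S : Subgroup P).map (kProj σ) ∧
      PMin S' (M.map (kProj σ)) ∧
        ∀ N : Subgroup (KImg σ), N.Normal → IsPGroup 2 N → N = ⊥ := by
  haveI : Fact (Nat.Prime 2) := ⟨Nat.prime_two⟩
  have hf : Function.Surjective (kProj σ) := QuotientGroup.mk'_surjective _
  have hMtop : M.map (kProj σ) ≠ ⊤ := fun e => by
    have h1 := comap_map_eq (kProj σ) M
    rw [e, comap_top, QuotientGroup.ker_mk', sup_eq_left.2 h.ker_le] at h1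
    exact h.pmin.ne_top h1.symm
  have hS' : ((S.mapSurjective hf : Sylow 2 (KImg σ)) : Subgroup (KImg σ)) =
      (S : Subgroup P).map (kProj σ) := Sylow.coe_mapSurjective _ _
  have hpm : PMin (S.mapSurjective hf) (M.map (kProj σ)) := by
    refine ⟨?_, hMtop, fun X hX hne => ?_⟩
    · rw [hS']; exact map_mono h.pmin.le
    · rw [hS'] at hX
      rw [← map_comap_eq_self_of_surjective hf X]
      refine map_mono (h.pmin.uniq _ (map_le_iff_le_comap.1 hX) fun e => hne ?_)
      rw [← map_comap_eq_self_of_surjective hf X, e, map_top_of_surjective _ hf]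
  refine ⟨S.mapSurjective hf, hS', hpm, fun N hN hNp => ?_⟩
  haveI := hN
  have hNS : N ≤ (S : Subgroup P).map (kProj σ) := by
    rw [← hS']
    exact le_sup_left.trans ((S.mapSurjective hf).is_maximal'
      (hNp.to_sup_of_normal_left' (S.mapSurjective hf).isPGroup'
        (by rw [normalizer_eq_top_iff.2 hN]; exact le_top)) le_sup_right).le
  by_cases hNM : N.comap (kProj σ) ≤ M
  · refine le_bot_iff.1 fun n hn => ?_
    obtain ⟨s, hs, rfl⟩ := hNS hn
    exact mem_bot.2 ((QuotientGroup.eq_one_iff s).2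
      (h.core_le_ker (h.normal_le _ inferInstance hNM (mem_inf.2 ⟨hs, hn⟩))))
  · have e1 := h.pmin.eq_top (X := N.comap (kProj σ) ⊔ (S : Subgroup P)) le_sup_right
      fun hh => hNM (le_sup_left.trans hh)
    refine (hMtop (top_le_iff.1 ?_)).elim
    rw [← map_top_of_surjective _ hf, ← e1, Subgroup.map_sup, map_comap_eq_self_of_surjective hf]
    exact sup_le (hNS.trans (map_mono h.pmin.le)) (map_mono h.pmin.le)

theorem card_map {A : Subgroup P} (hA : A ≤ (S : Subgroup P)) :
    Nat.card (A.map (kProj σ)) = (Cfsg.pCore 2 P).relIndex A := by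
  have e : A ⊓ (kProj σ).ker = A ⊓ Cfsg.pCore 2 P := by
    rw [QuotientGroup.ker_mk']
    exact le_antisymm (le_inf inf_le_left ((inf_le_inf_right _ hA).trans h.inf_ker_le))
      (inf_le_inf_left _ h.core_le_ker)
  have h1 := LocalCStar50.card_eq_map_mul (kProj σ) A
  rw [e] at h1
  have h2 := PLocal.card_mul_relIndex (inf_le_left : A ⊓ Cfsg.pCore 2 P ≤ A)
  rw [inf_relIndex_left, h1, mul_comm] at h2
  exact (Nat.eq_of_mul_eq_mul_right Nat.card_pos h2).symm

/-- A configuration from an offender in the Sylow subgroup. -/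
theorem exists_config {A : Subgroup P} (hAe : Cfsg.IsElementaryAbelian 2 A)
    (hne : A.map (kProj σ) ≠ ⊥) (hle : Nat.card V ≤ wt (kFaith σ) (A.map (kProj σ))) :
    ∃ 𝒞, Config (kFaith σ) 2 ((S : Subgroup P).map (kProj σ)) 𝒞 := by
  haveI : Fact (Nat.Prime 2) := ⟨Nat.prime_two⟩
  obtain ⟨S', hS', hpm, hop⟩ := h.exists_setting
  obtain ⟨B, -, hB⟩ := exists_minOff (kFaith_injective σ) h.exp
    (PLocal.isElementaryAbelian_map hAe _) hne hle
  obtain ⟨-, 𝒞, hC⟩ := FFCells.exists_config _ (kFaith_injective σ) h.exp S' _ hpm hop ⟨B, hB⟩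
  exact ⟨𝒞, hS' ▸ hC⟩

/-- The weight of an elementary subgroup of the Sylow subgroup. -/
theorem wt_le {A : Subgroup P} (hA : A ≤ (S : Subgroup P))
    (hAe : Cfsg.IsElementaryAbelian 2 A) :
    (Cfsg.pCore 2 P).relIndex A * Nat.card (fix σ A) ≤ Nat.card V := by
  haveI : Fact (Nat.Prime 2) := ⟨Nat.prime_two⟩
  have hwt : wt (kFaith σ) (A.map (kProj σ)) =
      (Cfsg.pCore 2 P).relIndex A * Nat.card (fix σ A) := by
    rw [wt, h.card_map hA, fix_map]
  rw [← hwt]
  by_cases hne : A.map (kProj σ) = ⊥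
  · rw [hne, wt_bot]
  by_contra hlt
  obtain ⟨𝒞, hC⟩ := h.exists_config hAe hne (not_le.1 hlt).le
  exact hlt (hC.pre.wt_le (map_mono hA))

end ModHyp

end Module

section Section

variable {G : Type*} [Group G]

/-- An elementary abelian section normalised by `K`. -/
structure Sec (K B C : Subgroup G) : Prop where
  le : C ≤ B
  normB : K ≤ normalizer (B : Set G)
  normC : K ≤ normalizer (C : Set G)
  comm : ∀ a ∈ B, ∀ b ∈ B, ⁅a, b⁆ ∈ C
  sq : ∀ b ∈ B, b * b ∈ C

namespace Sec

variable {K B C : Subgroup G} (h : Sec K B C)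
include h

theorem normal : (C.subgroupOf B).Normal := ⟨fun c hc b => mem_subgroupOf.2 (by
  show (b : G) * (c : G) * (b : G)⁻¹ ∈ C
  rw [show (b : G) * (c : G) * (b : G)⁻¹ = ⁅(b : G), (c : G)⁆ * c by
    simp only [commutatorElement_def]; group]
  exact mul_mem (h.comm _ b.2 _ c.2) (mem_subgroupOf.1 hc))⟩

/-- The section as a group. -/
def Quo (_h : Sec K B C) := ↥B ⧸ C.subgroupOf B

instance quoCommGroup : CommGroup h.Quo :=
  letI := h.normal
  { (QuotientGroup.Quotient.group (C.subgroupOf B) : Group (↥B ⧸ C.subgroupOf B)) with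
    mul_comm := fun x y => by
      induction x using QuotientGroup.induction_on with
      | _ a =>
        induction y using QuotientGroup.induction_on with
        | _ b =>
          refine (QuotientGroup.eq (s := C.subgroupOf B)).2 (mem_subgroupOf.2 ?_)
          show ((a : G) * b)⁻¹ * (b * a) ∈ C
          rw [show ((a : G) * b)⁻¹ * (b * a) = ⁅(b : G)⁻¹, (a : G)⁻¹⁆ by
            simp only [commutatorElement_def]; group]
          exact h.comm _ (inv_mem b.2) _ (inv_mem a.2) }

/-- The section as a module. -/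
abbrev Mod (h : Sec K B C) := Additive h.Quo

/-- The class of an element. -/
def vec (b : ↥B) : h.Mod := Additive.ofMul (QuotientGroup.mk b)

theorem vec_surj (x : h.Mod) : ∃ b, h.vec b = x :=
  QuotientGroup.mk_surjective (s := C.subgroupOf B) x

theorem vec_mul (a b : ↥B) : h.vec (a * b) = h.vec a + h.vec b := rfl

theorem vec_one : h.vec 1 = 0 := rfl

theorem vec_eq_zero {b : ↥B} : h.vec b = 0 ↔ (b : G) ∈ C := by
  letI := h.normal
  exact (QuotientGroup.eq_one_iff b).trans mem_subgroupOf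

theorem vec_eq {a b : ↥B} : h.vec a = h.vec b ↔ (a : G)⁻¹ * b ∈ C := by
  letI := h.normal
  exact (QuotientGroup.eq (s := C.subgroupOf B)).trans mem_subgroupOf

theorem exp (x : h.Mod) : 2 • x = 0 := by
  obtain ⟨b, rfl⟩ := h.vec_surj x
  rw [two_nsmul, ← h.vec_mul, h.vec_eq_zero]
  exact h.sq b b.2

/-- Conjugation on `B`. -/
def conjB (x : ↥K) : ↥B →* ↥B :=
  (Subgroup.normalizerMonoidHom (H := B) ⟨x, h.normB x.2⟩).toMonoidHom

theorem conjB_coe (x : ↥K) (b : ↥B) : ((h.conjB x b : ↥B) : G) = x * b * (x : G)⁻¹ := rfl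

/-- The action on the section. -/
def rep : ↥K →* AddMonoid.End h.Mod where
  toFun x := letI := h.normal
    MonoidHom.toAdditive (QuotientGroup.map (C.subgroupOf B) (C.subgroupOf B) (h.conjB x)
      fun b hb => mem_subgroupOf.2 ((mem_normalizer_iff.1 (h.normC x.2) _).1 (mem_subgroupOf.1 hb)))
  map_one' := AddMonoidHom.ext fun w => by
    obtain ⟨b, rfl⟩ := h.vec_surj w
    refine congrArg (fun z : ↥B => h.vec z) (Subtype.ext ?_)
    show ((1 : ↥K) : G) * b * ((1 : ↥K) : G)⁻¹ = b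
    simp
  map_mul' x y := AddMonoidHom.ext fun w => by
    obtain ⟨b, rfl⟩ := h.vec_surj w
    refine congrArg (fun z : ↥B => h.vec z) (Subtype.ext ?_)
    show ((x * y : ↥K) : G) * b * ((x * y : ↥K) : G)⁻¹ =
      (x : G) * ((y : G) * b * (y : G)⁻¹) * (x : G)⁻¹
    simp [mul_assoc]

theorem rep_vec (x : ↥K) (b : ↥B) : h.rep x (h.vec b) = h.vec (h.conjB x b) := rfl

theorem rep_vec_eq {x : ↥K} {b : ↥B} : h.rep x (h.vec b) = h.vec b ↔ ⁅(x : G), (b : G)⁆ ∈ C := by
  rw [h.rep_vec, eq_comm, h.vec_eq, conjB_coe]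
  have hb : ∀ c : G, c ∈ C ↔ (b : G) * c * (b : G)⁻¹ ∈ C := fun c => by
    refine ⟨fun hc => ?_, fun hc => ?_⟩
    · exact mem_subgroupOf.1 (h.normal.conj_mem ⟨c, h.le hc⟩ (mem_subgroupOf.2 hc) b)
    · have h1 := h.normal.conj_mem ⟨_, h.le hc⟩ (mem_subgroupOf.2 hc) b⁻¹
      simpa [mem_subgroupOf, mul_assoc] using h1
  rw [hb ((b : G)⁻¹ * ((x : G) * b * (x : G)⁻¹))]
  simp [commutatorElement_def, mul_assoc]

theorem rep_eq_one {x : ↥K} : h.rep x = 1 ↔ ∀ b ∈ B, ⁅(x : G), b⁆ ∈ C := by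
  refine ⟨fun e b hb => h.rep_vec_eq.1 (show h.rep x (h.vec ⟨b, hb⟩) = h.vec ⟨b, hb⟩ by
    rw [e]; rfl), fun hx => AddMonoidHom.ext fun w => ?_⟩
  obtain ⟨b, rfl⟩ := h.vec_surj w
  exact h.rep_vec_eq.2 (hx b b.2)

/-- The class map. -/
def vecHom : ↥B →* h.Quo := MonoidHom.mk' (fun b => Additive.toMul (h.vec b)) fun a b => h.vec_mul a b

/-- The preimage of an additive subgroup. -/
def pre (U : AddSubgroup h.Mod) : Subgroup G :=
  ((AddSubgroup.toSubgroup' U).comap h.vecHom).map B.subtype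

theorem mem_pre {U : AddSubgroup h.Mod} {b : G} :
    b ∈ h.pre U ↔ ∃ hb : b ∈ B, h.vec ⟨b, hb⟩ ∈ U := by
  unfold pre
  rw [Subgroup.mem_map]
  exact ⟨fun ⟨z, hz, e⟩ => e ▸ ⟨z.2, hz⟩, fun ⟨hb, hz⟩ => ⟨⟨b, hb⟩, hz, rfl⟩⟩

theorem relIndex_pre (U : AddSubgroup h.Mod) : (h.pre U).relIndex B = U.index := by
  rw [pre, relIndex, subgroupOf, comap_map_eq_self_of_injective B.subtype_injective,
    index_comap_of_surjective _ (fun x => (h.vec_surj (Additive.ofMul x)).imp fun _ e => e)]
  rfl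

theorem card_mod : Nat.card h.Mod = C.relIndex B := rfl

instance modFinite [Finite G] : Finite h.Mod :=
  Finite.of_surjective h.vec h.vec_surj

end Sec

end Section

end CfsgLib.Qrc85
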