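import Cfsg.Agent.Qrc85.Weight
import Cfsg.Agent.Qrc85.Cells
import Cfsg.Agent.LocalEven48.Basic

/-!
# `V ≤ O₂(K)` and `q > 2`: `O²(K) ∩ T` centralises `V`
-/

set_option autoImplicit false
set_option linter.style.haveILetI false
set_option linter.unusedSectionVars false

namespace CfsgLib.Qrc85

open Subgroup Cfsg CfsgLib.FFCells CfsgLib.PushParabolic85
open scoped commutatorElement IsMulCommutative

variable {G : Type*} [Group G] [Finite G] {T : Sylow 2 G} {M M₀ H V R K : Subgroup G}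

/-- The normal closure of `V` in `K`. -/
def hull (K V : Subgroup G) : Subgroup G := ⨆ k : ↥K, cj (k : G) V

theorem cj_le_hull {k : G} (hk : k ∈ K) : cj k V ≤ hull K V :=
  le_iSup (fun k : ↥K => cj (k : G) V) ⟨k, hk⟩

theorem le_hull : V ≤ hull K V := (cj_one V).ge.trans (cj_le_hull (one_mem _))

theorem le_normalizer_hull : K ≤ normalizer (hull K V : Set G) := fun g hg =>
  mem_normalizer_of_cj_le (by
    rw [hull, cj, Subgroup.map_iSup]
    exact iSup_le fun k => (cj_cj g (k : G) V).le.trans (cj_le_hull (mul_mem hg k.2)))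

theorem le_centralizer_hull {B : Subgroup G} (h : ∀ k ∈ K, B ≤ centralizer (cj k V : Set G)) :
    B ≤ centralizer (hull K V : Set G) := by
  rw [le_centralizer_iff]
  exact iSup_le fun k => le_centralizer_iff.1 (h k k.2)

theorem relIndex_cj (g : G) (A B : Subgroup G) :
    (cj g A ⊓ centralizer (cj g B : Set G)).relIndex (cj g A) =
      (A ⊓ centralizer (B : Set G)).relIndex A := by
  rw [← PLocal.map_inf_centralizer (MulAut.conj g).injective]
  exact relIndex_map_map_of_injective _ _ (MulAut.conj g).injective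

namespace Min

variable (m : Min T M H R K) (h : Hyp T M M₀ H V R) (hVP : V ≤ pCoreOf 2 K)
include m h hVP

theorem quad_of {B : Subgroup G} (hBP : B ≤ pCoreOf 2 K) (hne : ¬ B ≤ centralizer (V : Set G))
    (hq : ⁅⁅V, B⁆, B⁆ = ⊥)
    (hc : (V ⊓ centralizer (B : Set G)).relIndex V ≤ ((centralizer (V : Set G)).relIndex B) ^ 2) :
    QuadParamLE M₀ V 2 :=
  have hBT : B ≤ (T : Subgroup G) := hBP.trans (m.P_le_S.trans inf_le_left)
  ⟨B, hBT.trans h.T_M₀, induces_of_quadratic h.elem (hBT.trans h.T_normV) hne hq, hq, hc⟩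

theorem cj_le_P {k : G} (hk : k ∈ K) : cj k V ≤ pCoreOf 2 K :=
  (cj_mono hVP).trans (cj_eq_self.2 (LocalStructure.le_normalizer_pCoreOf K hk)).le

theorem conj_commute (hnq : ¬ QuadParamLE M₀ V 2) {k : G} (hk : k ∈ K) :
    cj k V ≤ centralizer (V : Set G) := by
  by_contra hne
  have key : ∀ k ∈ K, ¬ cj k V ≤ centralizer (V : Set G) →
      ((cj k V ⊓ centralizer (V : Set G)).relIndex (cj k V)) ^ 2 <
        (V ⊓ centralizer (cj k V : Set G)).relIndex V := fun k hk hne => by
    by_contra hlt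
    refine hnq (m.quad_of h hVP (m.cj_le_P h hVP hk) hne ?_ ?_)
    · have hPk : V ≤ normalizer (cj k V : Set G) := fun p hp => mem_normalizer_of_cj_le (by
        have hp' : k⁻¹ * p * k ∈ pCoreOf 2 K := by
          simpa using (mem_normalizer_iff.1
            (LocalStructure.le_normalizer_pCoreOf K (inv_mem hk)) p).1 (hVP hp)
        have e := congrArg (cj k)
          (cj_eq_self.2 (h.T_normV ((m.P_le_S hp').1)))
        rw [cj_cj] at e
        rw [cj_cj]
        exact le_of_eq (by simpa [mul_assoc] using e))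
      rw [eq_bot_iff]
      refine (commutator_mono ((commutator_comm _ _).le.trans
        (Coprime.commutator_le_of_le_normalizer hPk)) le_rfl).trans ?_
      exact le_bot_iff.2 (commutator_eq_bot_iff_le_centralizer.2
        (le_centralizer_iff_isMulCommutative.2 (PLocal.isMulCommutative_map h.elem.1 _)))
    · rw [← inf_relIndex_left (cj k V) (centralizer (V : Set G))]
      exact not_lt.1 hlt
  have e1 := key k hk hne
  have e2 := key k⁻¹ (inv_mem hk) fun hc => hne (by
    have h1 := cj_mono (g := k) hc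
    rw [cj_cj_inv] at h1
    refine le_centralizer_iff.1 (h1.trans ?_)
    rintro _ ⟨c, hc', rfl⟩
    refine mem_centralizer_iff.2 ?_
    rintro _ ⟨v, hv, rfl⟩
    rw [← map_mul, ← map_mul, mem_centralizer_iff.1 hc' v hv])
  have c1 : (cj k⁻¹ V ⊓ centralizer (V : Set G)).relIndex (cj k⁻¹ V) =
      (V ⊓ centralizer (cj k V : Set G)).relIndex V := by
    rw [← relIndex_cj k, cj_cj_inv]
  have c2 : (V ⊓ centralizer (cj k⁻¹ V : Set G)).relIndex V =
      (cj k V ⊓ centralizer (V : Set G)).relIndex (cj k V) := by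
    rw [← relIndex_cj k, cj_cj_inv]
  rw [c1, c2] at e2
  have h1 := Nat.le_self_pow (two_ne_zero : 2 ≠ 0) ((cj k V ⊓ centralizer (V : Set G)).relIndex (cj k V))
  have h2 := Nat.le_self_pow (two_ne_zero : 2 ≠ 0) ((V ⊓ centralizer (cj k V : Set G)).relIndex V)
  omega

/-- A small quadratic subgroup of `O₂(K)` on the hull gives a small quadratic parameter. -/
theorem transfer (hWc : hull K V ≤ centralizer (hull K V : Set G)) {B : Subgroup G}
    (hBP : B ≤ pCoreOf 2 K) (hq : ⁅⁅hull K V, B⁆, B⁆ = ⊥)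
    (hne : ¬ B ≤ centralizer (hull K V : Set G))
    (hc : (hull K V ⊓ centralizer (B : Set G)).relIndex (hull K V) ≤
      ((centralizer (hull K V : Set G)).relIndex B) ^ 2) : QuadParamLE M₀ V 2 := by
  classical
  set W := hull K V with hW
  have hpos : ∀ X Y : Subgroup G, 0 < X.relIndex Y := fun X Y =>
    Nat.pos_of_ne_zero Subgroup.index_ne_zero_of_finite
  obtain ⟨B', ⟨hB'P, hB'q, hB'ne, hB'c⟩, hmin⟩ := Set.exists_min_image
    {B : Subgroup G | B ≤ pCoreOf 2 K ∧ ⁅⁅W, B⁆, B⁆ = ⊥ ∧ ¬ B ≤ centralizer (W : Set G) ∧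
      (W ⊓ centralizer (B : Set G)).relIndex W ≤ ((centralizer (W : Set G)).relIndex B) ^ 2}
    (fun B => Nat.card B) (Set.toFinite _) ⟨B, hBP, hq, hne, hc⟩
  obtain ⟨g, hg, hgB⟩ : ∃ g ∈ K, ¬ B' ≤ centralizer (cj g V : Set G) := by
    by_contra hno
    push Not at hno
    exact hB'ne (le_centralizer_hull hno)
  set Vg := cj g V with hVg
  have hVgW : Vg ≤ W := cj_le_hull hg
  set Kb := B' ⊓ centralizer (Vg : Set G) with hKb
  have hCW : centralizer (W : Set G) ≤ centralizer (Vg : Set G) :=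
    centralizer_le (SetLike.coe_subset_coe.2 hVgW)
  set p := (W ⊓ centralizer (B' : Set G)).relIndex (W ⊓ centralizer (Kb : Set G)) with hp
  set q := (W ⊓ centralizer (Kb : Set G)).relIndex W
  have hpq : p * q = (W ⊓ centralizer (B' : Set G)).relIndex W :=
    relIndex_mul_relIndex _ _ _ (inf_le_inf_left _ (centralizer_le inf_le_left)) inf_le_left
  set d := (centralizer (Vg : Set G)).relIndex B'
  have hd : Kb.relIndex B' = d := inf_relIndex_left _ _
  have heB : (centralizer (W : Set G)).relIndex B' =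
      (centralizer (W : Set G)).relIndex Kb * d := by
    rw [← hd, ← inf_relIndex_left B' (centralizer (W : Set G)),
      ← relIndex_mul_relIndex (B' ⊓ centralizer (W : Set G)) Kb B'
        (inf_le_inf_left _ hCW) inf_le_left]
    congr 1
    rw [← inf_relIndex_right, ← inf_relIndex_right (centralizer (W : Set G)) Kb]
    congr 1
    rw [inf_comm B', inf_assoc, inf_eq_right.2 (inf_le_left : Kb ≤ B')]
  have hx : (Vg ⊓ centralizer (B' : Set G)).relIndex Vg ≤ p := by
    have e : (Vg ⊓ centralizer (B' : Set G)).relIndex Vg =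
        (W ⊓ centralizer (B' : Set G)).relIndex Vg := by
      rw [← inf_relIndex_right (W ⊓ centralizer (B' : Set G))]
      congr 1
      rw [inf_comm W, inf_assoc, inf_eq_right.2 hVgW, inf_comm]
    rw [e]
    exact relIndex_le_of_le_right (le_inf hVgW (le_centralizer_iff.1 inf_le_right))
      (hpos _ _).ne'
  have hpd : p ≤ d ^ 2 := by
    by_cases hKW : Kb ≤ centralizer (W : Set G)
    · have h1 : (centralizer (W : Set G)).relIndex Kb = 1 := relIndex_eq_one.2 hKW
      rw [h1, one_mul] at heB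
      refine le_trans ?_ (heB ▸ hB'c)
      rw [← hpq]
      exact Nat.le_mul_of_pos_right p (hpos _ _)
    · have hKne : ¬ ((W ⊓ centralizer (Kb : Set G)).relIndex W ≤
          ((centralizer (W : Set G)).relIndex Kb) ^ 2) := fun hc' => by
        have h1 := hmin Kb ⟨inf_le_left.trans hB'P, le_bot_iff.1 ((commutator_mono
          (commutator_mono le_rfl inf_le_left) inf_le_left).trans hB'q.le), hKW, hc'⟩
        exact hgB ((eq_of_le_of_card_ge inf_le_left h1).ge.trans inf_le_right)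
      rw [heB, mul_pow] at hB'c
      rw [← hpq] at hB'c
      by_contra hlt
      have h2 : ((centralizer (W : Set G)).relIndex Kb) ^ 2 * d ^ 2 < p * q := by
        rw [Nat.mul_comm p q]
        exact Nat.mul_lt_mul_of_lt_of_le (not_le.1 hKne) (not_le.1 hlt).le (Nat.pos_of_ne_zero
          (by omega))
      omega
  -- conjugate back
  have hgK : g⁻¹ ∈ K := inv_mem hg
  have hgV : cj g⁻¹ Vg = V := cj_inv_cj g V
  refine m.quad_of h hVP (B := cj g⁻¹ B')
    ((cj_mono hB'P).trans (cj_eq_self.2 (LocalStructure.le_normalizer_pCoreOf K hgK)).le)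
    (fun hc' => hgB ?_) ?_ ?_
  · have h1 := cj_mono (g := g) hc'
    rw [cj_cj_inv] at h1
    refine h1.trans ?_
    rintro _ ⟨c, hc'', rfl⟩
    refine mem_centralizer_iff.2 ?_
    rintro _ ⟨v, hv, rfl⟩
    rw [← map_mul, ← map_mul, mem_centralizer_iff.1 hc'' v hv]
  · have h1 : ⁅⁅Vg, B'⁆, B'⁆ = ⊥ :=
      le_bot_iff.1 ((commutator_mono (commutator_mono hVgW le_rfl) le_rfl).trans hB'q.le)
    rw [← hgV, cj, cj, ← map_commutator, ← map_commutator, h1, Subgroup.map_bot]
  · have e1 : (V ⊓ centralizer (cj g⁻¹ B' : Set G)).relIndex V =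
        (Vg ⊓ centralizer (B' : Set G)).relIndex Vg := by
      rw [← hgV, relIndex_cj]
    have e2 : (centralizer (V : Set G)).relIndex (cj g⁻¹ B') = d := by
      rw [← inf_relIndex_left, ← hgV, relIndex_cj, inf_relIndex_left]
    rw [e1, e2]
    exact hx.trans hpd

/-- The main statement. -/
theorem inf_pResOf_le (hCV : H ⊓ centralizer (V : Set G) ≤ M)
    (hNJ : H ⊓ normalizer (thompsonSubgroupOf 2 (T : Subgroup G) : Set G) ≤ M)
    (hJR : thompsonSubgroupOf 2 (T : Subgroup G) ≤ R) (hnq : ¬ QuadParamLE M₀ V 2) :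
    (T : Subgroup G) ⊓ LocalStructure.pResOf 2 K ≤ R := by
  classical
  haveI : Fact (Nat.Prime 2) := ⟨Nat.prime_two⟩
  set X := LocalStructure.pResOf 2 K with hX
  set P := pCoreOf 2 K with hP
  set J := thompsonSubgroupOf 2 (T : Subgroup G) with hJ
  have hXK : X ≤ K := LocalStructure.pResOf_le K
  have hPK : P ≤ K := LocalStructure.pCoreOf_le K
  have hKP : K ≤ normalizer (P : Set G) := LocalStructure.le_normalizer_pCoreOf K
  have hPp : IsPGroup 2 P := LocalStructure.pCoreOf_isPGroup K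
  set W := hull K V with hW
  have hWP : W ≤ P := iSup_le fun k => m.cj_le_P h hVP k.2
  have hKW : K ≤ normalizer (W : Set G) := le_normalizer_hull
  have hWc : W ≤ centralizer (W : Set G) := le_centralizer_hull fun b hb => by
    rw [le_centralizer_iff]
    refine le_centralizer_hull fun a ha => ?_
    have h1 := cj_mono (g := a) (m.conj_commute h hVP hnq (mul_mem (inv_mem ha) hb))
    rw [cj_cj, mul_inv_cancel_left] at h1
    refine h1.trans ?_
    rintro _ ⟨c, hc, rfl⟩
    refine mem_centralizer_iff.2 ?_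
    rintro _ ⟨v, hv, rfl⟩
    rw [← map_mul, ← map_mul, mem_centralizer_iff.1 hc v hv]
  have hWcomm : ∀ a ∈ W, ∀ b ∈ W, a * b = b * a := fun a ha b hb =>
    (mem_centralizer_iff.1 (hWc ha) b hb).symm
  have hWe : IsElementaryAbelian 2 W := by
    refine ⟨le_centralizer_iff_isMulCommutative.1 hWc, ?_⟩
    let W₁ : Subgroup G :=
      { carrier := {x | x ∈ W ∧ x ^ 2 = 1}
        one_mem' := ⟨one_mem _, one_pow 2⟩
        mul_mem' := fun {a b} ha hb => ⟨mul_mem ha.1 hb.1, by
          rw [(show Commute a b from hWcomm a ha.1 b hb.1).mul_pow, ha.2, hb.2, one_mul]⟩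
        inv_mem' := fun {a} ha => ⟨inv_mem ha.1, by rw [inv_pow, ha.2, inv_one]⟩ }
    have hle : W ≤ W₁ := iSup_le fun k a ha => ⟨cj_le_hull k.2 ha,
      (PLocal.isElementaryAbelian_map h.elem (MulAut.conj (k : G)).toMonoidHom).2 a ha⟩
    exact fun a ha => (hle ha).2
  have hWp : IsPGroup 2 W := hPp.to_le hWP
  -- the centraliser of `W` in `K`
  set CK := K ⊓ centralizer (W : Set G)
  have hCKM : CK ≤ M :=
    (inf_le_inf m.K_H (centralizer_le (SetLike.coe_subset_coe.2 le_hull))).trans hCV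
  have hKCK : K ≤ normalizer (CK : Set G) := fun g hg => mem_normalizer_of_cj_le
    (le_inf ((cj_mono inf_le_left).trans (cj_le_of_mem hg))
      ((cj_mono inf_le_right).trans
        (cj_eq_self.2 (CharPLocal.normalizer_le_normalizer_centralizer _ (hKW hg))).le))
  have hTCK : ∀ a ∈ (T : Subgroup G), a ∈ K → a ∈ centralizer (W : Set G) → a ∈ P :=
    fun a ha hK hc => m.inf_normal_le h inf_le_left hKCK hCKM (mem_inf.2 ⟨ha, mem_inf.2 ⟨hK, hc⟩⟩)
  have hXW : ¬ X ≤ centralizer (W : Set G) := fun hc => m.notM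
    (m.sup_eq.ge.trans (sup_le ((le_inf hXK hc).trans hCKM) (inf_le_left.trans h.T_M)))
  have hJK : J ≤ K := hJR.trans m.R_K
  have hPnotJ : ¬ J ≤ P := fun hle => m.notM fun k hk => by
    refine hNJ (mem_inf.2 ⟨m.K_H hk, ?_⟩)
    have e : thompsonSubgroupOf 2 P = J :=
      PLocal.thompsonSubgroupOf_eq_of_le (p := 2) (m.P_le_S.trans inf_le_left) hle
    rw [← e]
    exact PLocal.normalizer_le_normalizer_thompsonSubgroupOf 2 _ (hKP hk)
  -- the offender
  obtain ⟨A₁, hA₁, hA₁P⟩ : ∃ A ∈ PLocal.maxEAIn 2 (T : Subgroup G), ¬ A ≤ P := by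
    by_contra hno
    push Not at hno
    refine hPnotJ ?_
    rw [hJ, PLocal.thompsonSubgroupOf_eq]
    exact sSup_le hno
  have hA₁J : A₁ ≤ J := PLocal.le_thompsonSubgroupOf hA₁
  obtain ⟨A, hAA₁, hAne, hAq, hAc⟩ := exists_quad_offender T hA₁ hWe
    (hA₁J.trans (hJK.trans hKW)) fun hc => hA₁P fun a ha => hTCK a (hA₁.1 ha) (hJK (hA₁J ha)) (hc ha)
  have hAJ : A ≤ J := hAA₁.trans hA₁J
  have hAS : A ≤ (T : Subgroup G) ⊓ K := le_inf (hAA₁.trans hA₁.1) (hAJ.trans hJK)
  have hAe : IsElementaryAbelian 2 A := PLocal.isElementaryAbelian_of_le hA₁.2.1 hAA₁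
  have hpos : ∀ X Y : Subgroup G, 0 < X.relIndex Y := fun X Y =>
    Nat.pos_of_ne_zero Subgroup.index_ne_zero_of_finite
  set wA := (W ⊓ centralizer (A : Set G)).relIndex W with hwA
  set a₀ := P.relIndex A with ha₀
  set b₀ := (centralizer (W : Set G)).relIndex (A ⊓ P) with hb₀
  have hwA' : wA ≤ b₀ * a₀ := by
    have e : b₀ * a₀ = (centralizer (W : Set G)).relIndex A := by
      rw [hb₀, ha₀, ← inf_relIndex_left A P, ← inf_relIndex_left A (centralizer (W : Set G)),
        ← relIndex_mul_relIndex (A ⊓ centralizer (W : Set G)) (A ⊓ P) A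
          (fun a ha => mem_inf.2 ⟨ha.1, hTCK a (hAS ha.1).1 (hAS ha.1).2 ha.2⟩) inf_le_left]
      congr 1
      rw [← inf_relIndex_right, ← inf_relIndex_right (A ⊓ centralizer (W : Set G))]
      congr 1
      rw [inf_comm A (centralizer _), inf_assoc, inf_eq_right.2 (inf_le_left : A ⊓ P ≤ A)]
    rw [e]
    exact relIndex_le_of_card hAc
  have ha2 : 2 ≤ a₀ := by
    by_contra hlt
    have h1 : A ≤ P := relIndex_eq_one.1 (by
      have := hpos P A
      omega)
    exact hnq (m.transfer h hVP hWc h1 hAq hAne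
      ((relIndex_le_of_card hAc).trans (Nat.le_self_pow two_ne_zero _)))
  set wP := (W ⊓ centralizer ((A ⊓ P : Subgroup G) : Set G)).relIndex W with hwP
  have hwPA : wP ≤ wA := Nat.le_of_dvd (hpos _ _)
    (relIndex_dvd_of_le_left _ (inf_le_inf_left _ (centralizer_le inf_le_left)))
  have hbP : ¬ A ⊓ P ≤ centralizer (W : Set G) → b₀ ^ 2 < wP := fun hne => by
    by_contra hlt
    exact hnq (m.transfer h hVP hWc inf_le_right (le_bot_iff.1 ((commutator_mono
      (commutator_mono le_rfl inf_le_left) inf_le_left).trans hAq.le)) hne (not_lt.1 hlt))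
  have hba : b₀ < a₀ := by
    by_cases hne : A ⊓ P ≤ centralizer (W : Set G)
    · rw [hb₀, relIndex_eq_one.2 hne]
      omega
    · have h1 := (hbP hne).trans_le (hwPA.trans hwA')
      rw [pow_two] at h1
      exact Nat.lt_of_mul_lt_mul_left h1
  have hX2 : ∀ b : G, (∀ x ∈ X, ⁅x, b⁆ ∈ W ⊓ centralizer (X : Set G)) →
      b ∈ centralizer (X : Set G) := fun b hb => by
    have h1 : X ≤ centralizer ({b} : Set G) := LocalStructure.pResOf_le_of_forall fun x hx hxc => by
      have hxX : x ∈ X := LocalStructure.mem_pResOf hx hxc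
      exact mem_centralizer_singleton_iff.2 (LocalStructure.commute_of_stab (k := 1) hxc
        (by rw [pow_one]; exact hWe.2 _ (hb x hxX).1)
        (mem_centralizer_iff.1 (hb x hxX).2 x hxX)).eq
    exact mem_centralizer_iff.2 fun x hx => mem_centralizer_singleton_iff.1 (h1 hx)
  -- `O²(K)` moves at most one section
  have hsect : ∀ W' : Subgroup G, W' ≤ W → K ≤ normalizer (W' : Set G) →
      (∀ x ∈ X, ∀ w ∈ W', ⁅x, w⁆ = 1) ∨ (∀ x ∈ X, ∀ w ∈ W, ⁅x, w⁆ ∈ W') := by
    intro W' hW' hKW'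
    by_contra hno
    push Not at hno
    obtain ⟨⟨x, hx, w, hw, hxw⟩, ⟨x', hx', w', hw', hxw'⟩⟩ := hno
    have h1 := relIndex_le_of_moved h m (B₁ := W') (B₂ := ⊥) (D := W' ⊓ centralizer (A : Set G))
      bot_le (hW'.trans hWP) hKW' (by rw [normalizer_eq_top]; exact le_top)
      ⟨x, hx, w, hw, fun e => hxw (mem_bot.1 e)⟩ hAS hAe
      (fun b hb a ha => mem_bot.2 (commutatorElement_eq_one_iff_mul_comm.2
        (mem_centralizer_iff.1 hb.2 a ha)))
    set D₂ := (W ⊓ centralizer (A : Set G)) ⊔ W'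
    have hnW' : W ⊓ centralizer (A : Set G) ≤ normalizer (W' : Set G) :=
      inf_le_left.trans ((hWc.trans (centralizer_le (SetLike.coe_subset_coe.2 hW'))).trans
        (centralizer_le_normalizer _))
    have h2 := relIndex_le_of_moved h m (B₁ := W) (B₂ := W') (D := D₂) hW' hWP hKW hKW'
      ⟨x', hx', w', hw', hxw'⟩ hAS hAe (fun b hb a ha => by
        obtain ⟨c, hc, b', hb', e⟩ := exists_eq_mul
          (hW'.trans ((hWc.trans (centralizer_le (SetLike.coe_subset_coe.2
            (inf_le_left : W ⊓ centralizer (A : Set G) ≤ W)))).trans (centralizer_le_normalizer _)))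
          hb
        have hca : a * c = c * a := mem_centralizer_iff.1 hc.2 a ha
        subst e
        rw [show ⁅a, c * b'⁆ = a * c * (b' * (a⁻¹ * (b'⁻¹ * c⁻¹))) by
          simp only [commutatorElement_def]; group, hca,
          show c * a * (b' * (a⁻¹ * (b'⁻¹ * c⁻¹))) = c * ⁅a, b'⁆ * c⁻¹ by
          simp only [commutatorElement_def]; group]
        refine (mem_normalizer_iff.1 (hnW' hc) _).1 ?_
        rw [commutatorElement_def]
        exact mul_mem ((mem_normalizer_iff.1 (hKW' (hAS ha).2) _).1 hb') (inv_mem hb'))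
    have e3 := PLocal.card_sup_mul_card_inf hnW'
    have e1 : Nat.card ↥(W' ⊓ centralizer (A : Set G)) *
        (W' ⊓ centralizer (A : Set G)).relIndex W' = Nat.card W' :=
      PLocal.card_mul_relIndex inf_le_left
    have e2 : Nat.card D₂ * D₂.relIndex W = Nat.card W :=
      PLocal.card_mul_relIndex (sup_le inf_le_left hW')
    have e4 : Nat.card ↥(W ⊓ centralizer (A : Set G)) * wA = Nat.card W :=
      PLocal.card_mul_relIndex inf_le_left
    have e5 : W ⊓ centralizer (A : Set G) ⊓ W' = W' ⊓ centralizer (A : Set G) := by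
      rw [inf_comm W, inf_assoc, inf_eq_right.2 hW', inf_comm]
    rw [e5] at e3
    have h3 : a₀ * a₀ * Nat.card ↥(W ⊓ centralizer (A : Set G)) * Nat.card W' ≤
        wA * Nat.card ↥(W ⊓ centralizer (A : Set G)) * Nat.card W' := by
      calc a₀ * a₀ * Nat.card ↥(W ⊓ centralizer (A : Set G)) * Nat.card W'
          = (a₀ * Nat.card ↥(W' ⊓ centralizer (A : Set G))) * (a₀ * Nat.card D₂) := by
            rw [mul_assoc, ← e3]; ring
        _ ≤ ((W' ⊓ centralizer (A : Set G)).relIndex W' *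
            Nat.card ↥(W' ⊓ centralizer (A : Set G))) * (D₂.relIndex W * Nat.card D₂) :=
          Nat.mul_le_mul (Nat.mul_le_mul_right _ h1) (Nat.mul_le_mul_right _ h2)
        _ = Nat.card W' * Nat.card W := by
            rw [← e1, ← e2]; ring
        _ = _ := by rw [← e4]; ring
    have h4 := Nat.le_of_mul_le_mul_right (Nat.le_of_mul_le_mul_right h3 Nat.card_pos) Nat.card_pos
    have h5 := (h4.trans hwA').trans_lt (Nat.mul_lt_mul_of_pos_right hba (by omega))
    exact lt_irrefl _ h5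
  -- `[W, P]` is centralised by `O²(K)`
  set Y := ⁅W, P⁆ with hY
  have hYW : Y ≤ W := Coprime.commutator_le_of_le_normalizer (hPK.trans hKW)
  have hKY : K ≤ normalizer (Y : Set G) := fun k hk => mem_normalizer_of_cj_le (by
    rw [hY, cj, map_commutator]
    exact commutator_mono (cj_eq_self.2 (hKW hk)).le (cj_eq_self.2 (hKP hk)).le)
  have hYX : Y ≤ centralizer (X : Set G) := by
    rcases hsect Y hYW hKY with h1 | h1
    · exact fun y hy => mem_centralizer_iff.2 fun x hx =>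
        commutatorElement_eq_one_iff_mul_comm.1 (h1 x hx y hy)
    · exfalso
      have hVY : K ≤ normalizer ((V ⊔ Y : Subgroup G) : Set G) := by
        refine m.sup_eq.ge.trans (sup_le (fun x hx => mem_normalizer_of_cj_le ?_)
          fun s hs => mem_normalizer_of_cj_le ?_)
        · rw [PushAut85.cj_sup]
          refine sup_le ?_ ((cj_eq_self.2 (hKY (hXK hx))).le.trans le_sup_right)
          rintro _ ⟨v, hv, rfl⟩
          rw [MulEquiv.coe_toMonoidHom, MulAut.conj_apply,
            show x * v * x⁻¹ = ⁅x, v⁆ * v by simp only [commutatorElement_def]; group]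
          exact mul_mem (mem_sup_right (h1 x hx v (le_hull hv))) (mem_sup_left hv)
        · rw [PushAut85.cj_sup]
          exact sup_le_sup (cj_eq_self.2 (h.T_normV hs.1)).le (cj_eq_self.2 (hKY hs.2)).le
      have hWle : W ≤ V ⊔ Y := iSup_le fun k =>
        (cj_mono le_sup_left).trans (cj_eq_self.2 (hVY k.2)).le
      have hWV : W ≤ V := LocalStructure.le_of_le_sup_commutator_isPGroup hPp hVP hWP
        ((m.P_le_S.trans inf_le_left).trans h.T_normV) hWle
      exact hPnotJ fun j hj => hTCK j (PLocal.thompsonSubgroupOf_le 2 _ hj) (hJK hj)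
        (centralizer_le (SetLike.coe_subset_coe.2 hWV) (h.R_C (hJR hj)))
  have hYXbot : ⁅Y, X⁆ = ⊥ := commutator_eq_bot_iff_le_centralizer.2 hYX
  -- `[P, O²(K)]` centralises `W`
  set P₀ := ⁅P, X⁆ with hP₀
  have hP₀P : P₀ ≤ P := Coprime.commutator_le_of_le_normalizer (hXK.trans hKP)
  have hKP₀ : K ≤ normalizer (P₀ : Set G) := fun k hk => mem_normalizer_of_cj_le (by
    rw [hP₀, cj, map_commutator]
    exact commutator_mono (cj_eq_self.2 (hKP hk)).le (cj_eq_self.2 (m.K_normX hk)).le)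
  have hYP₀ : P₀ ≤ centralizer (Y : Set G) := by
    refine commutator_eq_bot_iff_le_centralizer.1 (commutator_commutator_eq_bot_of_rotate
      (by rw [commutator_comm X Y, hYXbot, commutator_bot_left]) ?_)
    rw [← le_bot_iff, ← hYXbot]
    exact commutator_mono (Coprime.commutator_le_of_le_normalizer (hPK.trans hKY)) le_rfl
  have hP₀W : P₀ ≤ centralizer (W : Set G) := by
    by_contra hne
    set Y₀ := ⁅W, P₀⁆ with hY₀
    have hY₀Y : Y₀ ≤ Y := commutator_mono le_rfl hP₀P
    have hY₀W : Y₀ ≤ W := hY₀Y.trans hYW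
    have hY₀ne : Y₀ ≠ ⊥ := fun e => hne
      (le_centralizer_iff.1 (commutator_eq_bot_iff_le_centralizer.1 e))
    set S := (T : Subgroup G) ⊓ K
    have hSp : IsPGroup 2 S := T.isPGroup'.to_le inf_le_left
    have hWS : W ≤ S := hWP.trans m.P_le_S
    obtain ⟨Y₁, ⟨hY₁₀, hY₁ne, hSY₁⟩, hY₁max⟩ := Set.exists_max_image
      {C : Subgroup G | C ≤ Y₀ ∧ C ≠ Y₀ ∧ S ≤ normalizer (C : Set G)} (fun C => Nat.card C)
      (Set.toFinite _) ⟨⊥, bot_le, Ne.symm hY₀ne, by rw [normalizer_eq_top]; exact le_top⟩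
    have hKY₁ : K ≤ normalizer (Y₁ : Set G) := m.sup_eq.ge.trans (sup_le
      ((le_centralizer_iff.1 ((hY₁₀.trans hY₀Y).trans hYX)).trans (centralizer_le_normalizer _))
      hSY₁)
    have hKY₀ : K ≤ normalizer (Y₀ : Set G) := fun k hk => mem_normalizer_of_cj_le (by
      rw [hY₀, cj, map_commutator]
      exact commutator_mono (cj_eq_self.2 (hKW hk)).le (cj_eq_self.2 (hKP₀ hk)).le)
    have hY₀S : ⁅Y₀, S⁆ ≤ Y₁ := by
      have hle : Y₁ ⊔ ⁅Y₀, S⁆ ≤ Y₀ :=
        sup_le hY₁₀ (Coprime.commutator_le_of_le_normalizer (inf_le_right.trans hKY₀))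
      have hn : S ≤ normalizer ((Y₁ ⊔ ⁅Y₀, S⁆ : Subgroup G) : Set G) := fun s hs =>
        mem_normalizer_of_cj_le (by
          rw [PushAut85.cj_sup]
          refine sup_le_sup (cj_eq_self.2 (hSY₁ hs)).le ?_
          rw [cj, map_commutator]
          exact commutator_mono (cj_eq_self.2 (hKY₀ hs.2)).le (cj_le_of_mem hs))
      by_contra hnle
      refine hY₁ne (le_antisymm hY₁₀ (LocalStructure.le_of_le_sup_commutator_isPGroup hSp
        (hY₁₀.trans (hY₀W.trans hWS)) (hY₀W.trans hWS) hSY₁ ?_))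
      refine le_of_eq ?_
      by_contra hne'
      have e := eq_of_le_of_card_ge (le_sup_left : Y₁ ≤ Y₁ ⊔ ⁅Y₀, S⁆)
        (hY₁max _ ⟨hle, fun e => hne' e.symm, hn⟩)
      exact hnle (le_sup_right.trans e.ge)
    have htwo : ∀ a ∈ Y₀, a ∉ Y₁ → ∀ b ∈ Y₀, b ∉ Y₁ → a⁻¹ * b ∈ Y₁ := by
      intro a ha ha1 b hb hb1
      have hza : zpowers a ≤ normalizer (Y₁ : Set G) := (zpowers_le.2 (hWc (hY₀W ha))).trans
        ((centralizer_le (SetLike.coe_subset_coe.2 (hY₁₀.trans hY₀W))).trans
          (centralizer_le_normalizer _))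
      have hn : S ≤ normalizer ((Y₁ ⊔ zpowers a : Subgroup G) : Set G) := fun s hs =>
        mem_normalizer_of_cj_le (by
          rintro _ ⟨c, hc, rfl⟩
          rw [MulEquiv.coe_toMonoidHom, MulAut.conj_apply,
            show s * c * s⁻¹ = ⁅s, c⁆ * c by simp only [commutatorElement_def]; group]
          exact mul_mem (mem_sup_left (commutatorElement_mem_swap (hY₀S
            (commutator_mem_commutator (sup_le hY₁₀ (zpowers_le.2 ha) hc) hs)))) hc)
      have e : Y₁ ⊔ zpowers a = Y₀ := by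
        by_contra hne'
        have e' := eq_of_le_of_card_ge (le_sup_left : Y₁ ≤ Y₁ ⊔ zpowers a)
          (hY₁max _ ⟨sup_le hY₁₀ (zpowers_le.2 ha), hne', hn⟩)
        exact ha1 (e'.ge (mem_sup_right (mem_zpowers a)))
      obtain ⟨y, hy, c, hc, rfl⟩ := exists_eq_mul hza (e.ge hb)
      obtain ⟨i, rfl⟩ := mem_zpowers_iff.1 hc
      have hay := hWcomm a (hY₀W ha) y (hY₀W (hY₁₀ hy))
      have ha2 : a ^ (2 : ℤ) = 1 := by
        rw [show (2 : ℤ) = ((2 : ℕ) : ℤ) from rfl, zpow_natCast]; exact hWe.2 a (hY₀W ha)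
      rcases Int.even_or_odd' i with ⟨j, rfl | rfl⟩
      · rw [zpow_mul, ha2, one_zpow, mul_one] at hb1
        exact absurd hy hb1
      · rw [zpow_add, zpow_mul, ha2, one_zpow, one_mul, zpow_one, ← hay, inv_mul_cancel_left]
        exact hy
    have hmulL : ∀ u ∈ W, ∀ v ∈ W, ∀ p ∈ P₀, ⁅u * v, p⁆ = ⁅u, p⁆ * ⁅v, p⁆ :=
      fun u hu v hv p hp =>
        PLocal.commutatorElement_mul_left_of_abelian hWe.1 hu hv (hKW (hPK (hP₀P hp)))
    have hmulR : ∀ w ∈ W, ∀ p ∈ P₀, ∀ q ∈ P₀, ⁅w, p * q⁆ = ⁅w, p⁆ * ⁅w, q⁆ := fun w hw p hp q hq => by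
      have hc := mem_centralizer_iff.1 (hYP₀ hp) _
        (hY₀Y (commutator_mem_commutator hw hq))
      rw [show ⁅w, p * q⁆ = ⁅w, p⁆ * (p * ⁅w, q⁆ * p⁻¹) by
        simp only [commutatorElement_def]; group, ← hc, mul_inv_cancel_right]
    have hinvL : ∀ u ∈ W, ∀ p ∈ P₀, ⁅u⁻¹, p⁆ = ⁅u, p⁆⁻¹ := fun u hu p hp => by
      have e := hmulL u⁻¹ (inv_mem hu) u hu p hp
      rw [inv_mul_cancel, commutatorElement_one_left] at e
      exact eq_inv_of_mul_eq_one_left e.symm
    have hinvR : ∀ w ∈ W, ∀ p ∈ P₀, ⁅w, p⁻¹⁆ = ⁅w, p⁆⁻¹ := fun w hw p hp => by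
      have e := hmulR w hw p⁻¹ (inv_mem hp) p hp
      rw [inv_mul_cancel, commutatorElement_one_right] at e
      exact eq_inv_of_mul_eq_one_left e.symm
    let ann : Subgroup G → Subgroup G := fun U =>
      { carrier := {w | w ∈ W ∧ ∀ p ∈ P₀, p ∈ U → ⁅w, p⁆ ∈ Y₁}
        one_mem' := ⟨one_mem _, fun p _ _ => by rw [commutatorElement_one_left]; exact one_mem _⟩
        mul_mem' := fun {u v} hu hv => ⟨mul_mem hu.1 hv.1, fun p hp hpU => by
          rw [hmulL u hu.1 v hv.1 p hp]; exact mul_mem (hu.2 p hp hpU) (hv.2 p hp hpU)⟩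
        inv_mem' := fun {u} hu => ⟨inv_mem hu.1, fun p hp hpU => by
          rw [hinvL u hu.1 p hp]; exact inv_mem (hu.2 p hp hpU)⟩ }
    let P₂ : Subgroup G :=
      { carrier := {p | p ∈ P₀ ∧ ∀ w ∈ W, ⁅w, p⁆ ∈ Y₁}
        one_mem' := ⟨one_mem _, fun w _ => by rw [commutatorElement_one_right]; exact one_mem _⟩
        mul_mem' := fun {p q} hp hq => ⟨mul_mem hp.1 hq.1, fun w hw => by
          rw [hmulR w hw p hp.1 q hq.1]; exact mul_mem (hp.2 w hw) (hq.2 w hw)⟩
        inv_mem' := fun {p} hp => ⟨inv_mem hp.1, fun w hw => by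
          rw [hinvR w hw p hp.1]; exact inv_mem (hp.2 w hw)⟩ }
    set W₂ := ann P₀
    have hW₂W : W₂ ≤ W := fun w hw => hw.1
    have hKW₂ : K ≤ normalizer (W₂ : Set G) := fun k hk => mem_normalizer_of_cj_le (by
      rintro _ ⟨w, hw, rfl⟩
      rw [MulEquiv.coe_toMonoidHom, MulAut.conj_apply]
      refine ⟨(mem_normalizer_iff.1 (hKW hk) w).1 hw.1, fun p hp _ => ?_⟩
      have hp' : k⁻¹ * p * k ∈ P₀ := by
        simpa using (mem_normalizer_iff.1 (hKP₀ (inv_mem hk)) p).1 hp
      rw [show ⁅k * w * k⁻¹, p⁆ = k * ⁅w, k⁻¹ * p * k⁆ * k⁻¹ by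
        simp only [commutatorElement_def]; group]
      exact (mem_normalizer_iff.1 (hKY₁ hk) _).1 (hw.2 _ hp' hp'))
    have hKP₂ : K ≤ normalizer (P₂ : Set G) := fun k hk => mem_normalizer_of_cj_le (by
      rintro _ ⟨p, hp, rfl⟩
      rw [MulEquiv.coe_toMonoidHom, MulAut.conj_apply]
      refine ⟨(mem_normalizer_iff.1 (hKP₀ hk) p).1 hp.1, fun w hw => ?_⟩
      have hw' : k⁻¹ * w * k ∈ W := by
        simpa using (mem_normalizer_iff.1 (hKW (inv_mem hk)) w).1 hw
      rw [show ⁅w, k * p * k⁻¹⁆ = k * ⁅k⁻¹ * w * k, p⁆ * k⁻¹ by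
        simp only [commutatorElement_def]; group]
      exact (mem_normalizer_iff.1 (hKY₁ hk) _).1 (hp.2 _ hw'))
    have hP₀nle : ¬ P₀ ≤ P₂ := fun hle => hY₁ne (le_antisymm hY₁₀
      (commutator_le.2 fun w hw p hp => (hle hp).2 w hw))
    have hXW₂ : ∀ x ∈ X, ∀ w ∈ W₂, ⁅x, w⁆ = 1 := by
      refine (hsect W₂ hW₂W hKW₂).resolve_right fun hmv => hP₀nle ?_
      have h1 : ⁅P₀, X⁆ ≤ P₂ := commutator_le.2 fun p hp x hx => by
        have hpP₀ : ⁅p, x⁆ ∈ P₀ := Coprime.commutator_le_of_le_normalizer (hXK.trans hKP₀)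
          (commutator_mem_commutator hp hx)
        have h3 : ⁅⁅P₀, X⁆, W⁆ ≤ Y₁ := LocalEven48.three_subgroups_le
          ((hP₀P.trans hPK).trans hKY₁) (hXK.trans hKY₁) ((hWP.trans hPK).trans hKY₁)
          (commutator_le.2 fun c hc p' hp' => by
            have hc' : c ∈ W₂ :=
              (commutator_le.2 fun y hy w hw => hmv y hy w hw : ⁅X, W⁆ ≤ W₂) hc
            exact hc'.2 p' hp' hp')
          (by rw [← hY₀, commutator_eq_bot_iff_le_centralizer.2 (hY₀Y.trans hYX)]; exact bot_le)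
        refine ⟨hpP₀, fun w hw => commutatorElement_mem_swap ?_⟩
        exact h3 (commutator_mem_commutator (commutator_mem_commutator hp hx) hw)
      have h2 : X ≤ centMod P P₂ := LocalStructure.pResOf_le_of_forall fun x hx hxc => by
        have hxX : x ∈ X := LocalStructure.mem_pResOf hx hxc
        refine mem_centMod.2 ⟨hKP₂ hx, fun p hp => ?_⟩
        have e1 := Coprime.commutator_commutator_eq ((zpowers_le.2 hx).trans hKP)
          (BlockNormal85.coprime_zpowers hPp hxc)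
        have h5 : ⁅P, zpowers x⁆ ≤ P₂ := by
          rw [← e1]
          exact (commutator_mono (commutator_mono le_rfl (zpowers_le.2 hxX))
            (zpowers_le.2 hxX)).trans h1
        exact h5 (commutator_mem_commutator hp (mem_zpowers x))
      exact commutator_le_of_le_centMod h2
    have hW₂P₀ : W₂ ≤ W ⊓ centralizer (P₀ : Set G) := by
      refine le_inf hW₂W (le_centralizer_iff.1 (commutator_eq_bot_iff_le_centralizer.1
        (commutator_commutator_eq_bot_of_rotate ?_ ?_)))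
      · rw [show ⁅X, W₂⁆ = ⊥ from le_bot_iff.1 (commutator_le.2 fun x hx w hw =>
          mem_bot.2 (hXW₂ x hx w hw)), commutator_bot_left]
      · rw [← le_bot_iff, ← hYXbot]
        exact commutator_mono (commutator_mono hW₂W le_rfl) le_rfl
    have hcount : ∀ n, ∀ U : Subgroup G, P₂ ≤ U → U ≤ P₀ → Nat.card U ≤ n →
        (ann U).relIndex W ≤ P₂.relIndex U := by
      intro n
      induction n with
      | zero => intro U _ _ hn; exact absurd hn (not_le.2 Nat.card_pos)
      | succ n ih =>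
        intro U hU2 hU0 hn
        rcases eq_or_ne P₂ U with he | hne'
        · have hall : W ≤ ann U := fun w hw => ⟨hw, fun p _ hpU => (he.ge hpU).2 w hw⟩
          rw [relIndex_eq_one.2 hall]
          exact hpos _ _
        · obtain ⟨U', ⟨hU'2, hU'U, hU'ne⟩, hU'max⟩ := Set.exists_max_image
            {C : Subgroup G | P₂ ≤ C ∧ C ≤ U ∧ C ≠ U} (fun C => Nat.card C) (Set.toFinite _)
            ⟨P₂, le_rfl, hU2, hne'⟩
          have hlt : Nat.card U' < Nat.card U :=
            lt_of_not_ge fun hge => hU'ne (eq_of_le_of_card_ge hU'U hge)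
          obtain ⟨p, hpU, hpU'⟩ := SetLike.exists_of_lt (lt_of_le_of_ne hU'U hU'ne)
          have hgenU : U' ⊔ zpowers p = U := by
            by_contra hne''
            have e := eq_of_le_of_card_ge (le_sup_left : U' ≤ U' ⊔ zpowers p)
              (hU'max _ ⟨hU'2.trans le_sup_left, sup_le hU'U (zpowers_le.2 hpU), hne''⟩)
            exact hpU' (e.ge (mem_sup_right (mem_zpowers p)))
          have hle : ann U' ⊓ ann (zpowers p) ≤ ann U := fun w hw => by
            refine ⟨hw.1.1, fun q hq hqU => ?_⟩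
            let S' : Subgroup G :=
              { carrier := {q | q ∈ P₀ ∧ ⁅w, q⁆ ∈ Y₁}
                one_mem' := ⟨one_mem _, by rw [commutatorElement_one_right]; exact one_mem _⟩
                mul_mem' := fun {a b} ha hb => ⟨mul_mem ha.1 hb.1, by
                  rw [hmulR w hw.1.1 a ha.1 b hb.1]; exact mul_mem ha.2 hb.2⟩
                inv_mem' := fun {a} ha => ⟨inv_mem ha.1, by
                  rw [hinvR w hw.1.1 a ha.1]; exact inv_mem ha.2⟩ }
            exact ((sup_le (c := S')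
              (fun a ha => ⟨hU0 (hU'U ha), hw.1.2 a (hU0 (hU'U ha)) ha⟩)
              (zpowers_le.2 ⟨hU0 hpU, hw.2.2 p (hU0 hpU) (mem_zpowers p)⟩))
                (hgenU.ge hqU)).2
          have htwo' : (ann (zpowers p)).relIndex W ≤ 2 := by
            have hpP₀ := hU0 hpU
            have hmem : ∀ w ∈ W, ⁅w, p⁆ ∈ Y₁ → w ∈ ann (zpowers p) := fun w hw hwp => by
              let S' : Subgroup G :=
                { carrier := {q | q ∈ P₀ ∧ ⁅w, q⁆ ∈ Y₁}
                  one_mem' := ⟨one_mem _, by rw [commutatorElement_one_right]; exact one_mem _⟩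
                  mul_mem' := fun {a b} ha hb => ⟨mul_mem ha.1 hb.1, by
                    rw [hmulR w hw a ha.1 b hb.1]; exact mul_mem ha.2 hb.2⟩
                  inv_mem' := fun {a} ha => ⟨inv_mem ha.1, by
                    rw [hinvR w hw a ha.1]; exact inv_mem ha.2⟩ }
              exact ⟨hw, fun q _ hq => ((zpowers_le.2 ⟨hpP₀, hwp⟩ : zpowers p ≤ S') hq).2⟩
            refine le_trans (Nat.card_le_card_of_injective
              (fun q : ↥W ⧸ (ann (zpowers p)).subgroupOf W =>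
                decide (⁅((q.out : ↥W) : G), p⁆ ∈ Y₁)) ?_)
              (le_of_eq (by rw [Nat.card_eq_fintype_card, Fintype.card_bool]))
            intro q q' e
            rw [← QuotientGroup.out_eq' q, ← QuotientGroup.out_eq' q', QuotientGroup.eq,
              mem_subgroupOf]
            refine hmem _ (mul_mem (inv_mem q.out.2) q'.out.2) ?_
            rw [Subgroup.coe_mul, Subgroup.coe_inv, hmulL _ (inv_mem q.out.2) _ q'.out.2 p hpP₀,
              hinvL _ q.out.2 p hpP₀]
            have hm : ∀ z : ↥W, ⁅(z : G), p⁆ ∈ Y₀ := fun z =>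
              commutator_mem_commutator z.2 hpP₀
            by_cases h1 : ⁅((q.out : ↥W) : G), p⁆ ∈ Y₁
            · exact mul_mem (inv_mem h1) (by simpa [h1] using e)
            · exact htwo _ (hm _) h1 _ (hm _) (by simpa [h1] using e)
          calc (ann U).relIndex W ≤ (ann U' ⊓ ann (zpowers p)).relIndex W :=
                Nat.le_of_dvd (hpos _ _) (relIndex_dvd_of_le_left _ hle)
            _ ≤ (ann U').relIndex W * (ann (zpowers p)).relIndex W := relIndex_inf_le
            _ ≤ P₂.relIndex U' * U'.relIndex U := by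
                refine Nat.mul_le_mul (ih U' hU'2 (hU'U.trans hU0) (by omega)) (htwo'.trans ?_)
                have h1 : U'.relIndex U ≠ 1 := fun e =>
                  hU'ne (le_antisymm hU'U (relIndex_eq_one.1 e))
                have := hpos U' U
                omega
            _ = P₂.relIndex U := relIndex_mul_relIndex _ _ _ hU'2 hU'U
    refine hnq (m.transfer h hVP hWc hP₀P ?_ hne ?_)
    · rw [eq_bot_iff]
      refine (commutator_mono hY₀Y le_rfl).trans ?_
      rw [le_bot_iff, commutator_eq_bot_iff_le_centralizer, le_centralizer_iff]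
      exact hYP₀
    · calc (W ⊓ centralizer (P₀ : Set G)).relIndex W ≤ W₂.relIndex W :=
            Nat.le_of_dvd (hpos _ _) (relIndex_dvd_of_le_left _ hW₂P₀)
        _ ≤ P₂.relIndex P₀ := hcount _ P₀ (fun p hp => hp.1) le_rfl le_rfl
        _ ≤ (P₀ ⊓ centralizer (W : Set G)).relIndex P₀ := Nat.le_of_dvd (hpos _ _)
            (relIndex_dvd_of_le_left _ fun p hp => ⟨hp.1, fun w hw => by
              rw [commutatorElement_eq_one_iff_mul_comm.2 (mem_centralizer_iff.1 hp.2 w hw)]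
              exact one_mem _⟩)
        _ = (centralizer (W : Set G)).relIndex P₀ := inf_relIndex_left _ _
        _ ≤ _ := Nat.le_self_pow two_ne_zero _
  -- `[W, O²(K)]` is centralised by `P`
  set W₁ := ⁅W, X⁆ with hW₁
  have hW₁W : W₁ ≤ W := Coprime.commutator_le_of_le_normalizer (hXK.trans hKW)
  have hKW₁ : K ≤ normalizer (W₁ : Set G) := fun k hk => mem_normalizer_of_cj_le (by
    rw [hW₁, cj, map_commutator]
    exact commutator_mono (cj_eq_self.2 (hKW hk)).le (cj_eq_self.2 (m.K_normX hk)).le)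
  have hPW₁ : P ≤ centralizer (W₁ : Set G) := by
    refine le_centralizer_iff.1 (commutator_eq_bot_iff_le_centralizer.1
      (commutator_commutator_eq_bot_of_rotate ?_ ?_))
    · rw [commutator_comm X P]
      exact commutator_eq_bot_iff_le_centralizer.2 hP₀W
    · rw [commutator_comm P W]
      exact hYXbot
  have hW₁X : ∀ x ∈ X, ∀ w ∈ W, ⁅x, w⁆ ∈ W₁ := fun x hx w hw =>
    commutatorElement_mem_swap (commutator_mem_commutator hw hx)
  have hAP : A ⊓ P ≤ centralizer (W : Set G) := by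
    by_contra hne
    have hmv : ∃ x ∈ X, ∃ b ∈ W₁, ⁅x, b⁆ ∉ (⊥ : Subgroup G) := by
      by_contra hno
      push Not at hno
      refine hXW fun x hx => mem_centralizer_iff.2 fun w hw => ?_
      refine (mem_centralizer_iff.1 (hX2 w fun y hy => mem_inf.2
        ⟨hW₁W (hW₁X y hy w hw), mem_centralizer_iff.2 fun z hz => ?_⟩) x hx).symm
      exact commutatorElement_eq_one_iff_mul_comm.1 (mem_bot.1 (hno z hz _ (hW₁X y hy w hw)))
    have h1 := relIndex_le_of_moved h m (B₁ := W₁) (B₂ := ⊥)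
      (D := W₁ ⊓ centralizer (A : Set G)) bot_le (hW₁W.trans hWP) hKW₁
      (by rw [normalizer_eq_top]; exact le_top) hmv hAS hAe
      (fun b hb a ha => mem_bot.2 (commutatorElement_eq_one_iff_mul_comm.2
        (mem_centralizer_iff.1 hb.2 a ha)))
    have h2 : (W₁ ⊓ centralizer (A : Set G)).relIndex W₁ * wP ≤ wA := by
      rw [hwA, ← relIndex_mul_relIndex (W ⊓ centralizer (A : Set G))
        (W ⊓ centralizer ((A ⊓ P : Subgroup G) : Set G)) W
        (inf_le_inf_left _ (centralizer_le inf_le_left)) inf_le_left]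
      refine Nat.mul_le_mul_right _ ?_
      have e : (W₁ ⊓ centralizer (A : Set G)).relIndex W₁ =
          (W ⊓ centralizer (A : Set G)).relIndex W₁ := by
        rw [← inf_relIndex_right (W ⊓ centralizer (A : Set G))]
        congr 1
        rw [inf_comm W, inf_assoc, inf_eq_right.2 hW₁W, inf_comm]
      rw [e]
      exact relIndex_le_of_le_right (le_inf hW₁W
        (le_centralizer_iff.1 (inf_le_right.trans hPW₁))) (hpos _ _).ne'
    have h3 : a₀ * b₀ ^ 2 < wA :=
      lt_of_lt_of_le (Nat.mul_lt_mul_of_pos_left (hbP hne) (by omega))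
        ((Nat.mul_le_mul_right _ h1).trans h2)
    have h4 := h3.trans_le hwA'
    rw [mul_comm b₀ a₀] at h4
    have h5 := Nat.lt_of_mul_lt_mul_left h4
    have := Nat.le_self_pow (two_ne_zero : 2 ≠ 0) b₀
    omega
  have hwA0 : wA ≤ a₀ := by
    rw [hb₀, relIndex_eq_one.2 hAP, one_mul] at hwA'
    exact hwA'
  -- the section `W / C_W(X)`
  set W₀ := W ⊓ centralizer (X : Set G) with hW₀
  have hKW₀ : K ≤ normalizer (W₀ : Set G) := fun g hg => mem_normalizer_of_cj_le
    (le_inf ((cj_mono inf_le_left).trans (cj_eq_self.2 (hKW hg)).le)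
      ((cj_mono inf_le_right).trans
        (cj_eq_self.2 (CharPLocal.normalizer_le_normalizer_centralizer _ (m.K_normX hg))).le))
  have hs : Sec K W W₀ := ⟨inf_le_left, hKW, hKW₀, fun a ha b hb => by
    rw [commutatorElement_eq_one_iff_mul_comm.2 (hWcomm a ha b hb)]; exact one_mem _,
    fun b hb => by rw [← pow_two, hWe.2 b hb]; exact one_mem _⟩
  have hPW₀ : ∀ g ∈ P, ∀ w ∈ W, ⁅g, w⁆ ∈ W₀ := fun g hg w hw => by
    have hy : ⁅g, w⁆ ∈ Y := commutatorElement_mem_swap (commutator_mem_commutator hw hg)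
    exact mem_inf.2 ⟨hYW hy, hYX hy⟩
  have hmov : ∃ x ∈ X, ∃ b ∈ W, ⁅x, b⁆ ∉ W₀ := by
    by_contra hno
    push Not at hno
    exact hXW fun x hx => mem_centralizer_iff.2 fun w hw =>
      (mem_centralizer_iff.1 (hX2 w fun y hy => hno y hy w hw) x hx).symm
  obtain ⟨S, hS, hmod⟩ := exists_modHyp h m hs hPW₀ hmov
  set π := kProj hs.rep with hπ
  set Ā := (A.subgroupOf K).map π with hĀ
  set T' := (S : Subgroup ↥K).map π with hT'
  have hA' : A.subgroupOf K ≤ (S : Subgroup ↥K) := hS ▸ comap_mono (hAS.trans inf_le_left)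
  have hrel : (Cfsg.pCore 2 ↥K).relIndex (A.subgroupOf K) = a₀ := by
    rw [show Cfsg.pCore 2 ↥K = P.subgroupOf K from
      (comap_map_eq_self_of_injective K.subtype_injective _).symm,
      relIndex_subgroupOf (hAS.trans inf_le_right)]
  have hAe' : IsElementaryAbelian 2 (A.subgroupOf K) :=
    (PLocal.isElementaryAbelian_map_iff K.subtype_injective).1 (by
      rw [subgroupOf_map_subtype, inf_eq_left.2 (hAS.trans inf_le_right)]; exact hAe)
  have hcardĀ : Nat.card Ā = a₀ := (hmod.card_map hA').trans hrel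
  have hĀne : Ā ≠ ⊥ := fun e => by rw [e, card_bot] at hcardĀ; omega
  have hwt : Nat.card hs.Mod ≤ wt (kFaith hs.rep) Ā := by
    set F := SL2Recognition.fix hs.rep (A.subgroupOf K) with hF
    have hidx : F.index ≤ a₀ := by
      rw [← hs.relIndex_pre F]
      refine (Nat.le_of_dvd (hpos _ _) (relIndex_dvd_of_le_left _ ?_)).trans hwA0
      intro b hb
      refine hs.mem_pre.2 ⟨hb.1, fun a ha => hs.rep_vec_eq.2 ?_⟩
      rw [commutatorElement_eq_one_iff_mul_comm.2
        (mem_centralizer_iff.1 hb.2 _ (mem_subgroupOf.1 ha))]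
      exact one_mem _
    have eF : F.index * Nat.card ↥F = Nat.card hs.Mod := AddSubgroup.index_mul_card F
    rw [← eF, wt, hcardĀ, hĀ, fix_map, ← hF]
    exact Nat.mul_le_mul_right _ hidx
  obtain ⟨𝒞, hC⟩ := hmod.exists_config hAe' hĀne hwt
  have hĀT' : Ā ≤ T' := map_mono hA'
  have hĀJ : Ā ≤ rootsJoin 𝒞 := hC.pre.le_join_of_comm hĀT' (by
    rintro _ ⟨a, ha, rfl⟩ _ ⟨b, hb, rfl⟩
    rw [← map_mul, ← map_mul]
    exact congrArg π (Subtype.ext ((mem_centralizer_iff.1
      (le_centralizer_iff_isMulCommutative.2 hAe.1 (mem_subgroupOf.1 hb)) _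
      (mem_subgroupOf.1 ha))))) hwt
  obtain ⟨𝒟, h𝒟, h𝒟e⟩ := (hC.pre.fam.wt_le_of_le hC.pre.inj hĀJ).2 hwt
  obtain ⟨d, hd⟩ : 𝒟.Nonempty := Set.nonempty_iff_ne_empty.2 fun e => hĀne (by
    rw [h𝒟e, rootsJoin, iSup_eq_bot]
    exact fun c => absurd c.2 (by simp [e]))
  have hdA : d.1 ≤ Ā := (le_iSup (fun c : 𝒟 => rt c.1) ⟨d, hd⟩).trans h𝒟e.ge
  set Jb := (J.subgroupOf K).map π with hJb
  have hTJb : ∀ s ∈ T', cj s Jb ≤ Jb := by
    rintro _ ⟨s, hs', rfl⟩ _ ⟨_, ⟨j, hj, rfl⟩, rfl⟩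
    refine ⟨s * j * s⁻¹, mem_subgroupOf.2 ?_, by simp⟩
    have hsT : (s : G) ∈ (T : Subgroup G) := mem_subgroupOf.1 (hS.le hs')
    exact (mem_normalizer_iff.1 ((le_normalizer.trans
      (PLocal.normalizer_le_normalizer_thompsonSubgroupOf 2 _)) hsT) _).1 (mem_subgroupOf.1 hj)
  have hrootJ : rootsJoin 𝒞 ≤ Jb := iSup_le fun c => by
    obtain ⟨s, hs', hsd, -⟩ := hC.trans d (h𝒟 hd) c.1 c.2
    show c.1.1 ≤ Jb
    rw [← hsd]
    exact (cj_mono (hdA.trans (map_mono (comap_mono hAJ)))).trans (hTJb s hs')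
  set Mb := (M.subgroupOf K).map π
  have hMb : Mb ≠ ⊤ := fun e => by
    have h1 := comap_map_eq π (M.subgroupOf K)
    rw [show (M.subgroupOf K).map π = ⊤ from e, comap_top, QuotientGroup.ker_mk',
      sup_eq_left.2 hmod.ker_le] at h1
    exact hmod.pmin.ne_top h1.symm
  have hT'Mb : T' ≤ Mb := map_mono hmod.pmin.le
  have hgrpsMb : ¬ grpsJoin 𝒞 ≤ Mb := fun hle =>
    hMb (top_le_iff.1 (hC.gen.ge.trans (sup_le hle hT'Mb)))
  have hgn : (grpsJoin 𝒞).Normal := by
    refine normalizer_eq_top_iff.1 (top_le_iff.1 (hC.gen.ge.trans (sup_le le_normalizer fun t ht => ?_)))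
    refine mem_normalizer_of_cj_le ?_
    rw [grpsJoin, cj, Subgroup.map_iSup]
    exact iSup_le fun c => le_iSup (fun c : 𝒞 => c.1.2) ⟨_, hC.pre.equiv t ht c.1 c.2⟩
  set E := (X.subgroupOf K).map π with hE
  have hEgrps : E ≤ grpsJoin 𝒞 := by
    set N := ((grpsJoin 𝒞).comap π).map K.subtype with hN
    have hn : K ≤ normalizer (N : Set G) := le_normalizer_map_subtype (hgn.comap π)
    have hNM : ¬ N ≤ M := fun hle => hgrpsMb (by
      rw [← map_comap_eq_self_of_surjective (QuotientGroup.mk'_surjective _) (grpsJoin 𝒞)]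
      exact map_mono fun g hg => mem_subgroupOf.2 (hle (mem_map_of_mem _ hg)))
    rintro _ ⟨x, hx, rfl⟩
    obtain ⟨z, hz, e⟩ := m.pResOf_le_of h (map_subtype_le _) hn hNM (mem_subgroupOf.1 hx)
    exact (Subtype.ext e : z = x) ▸ hz
  have h0 : ∀ w ∈ SL2Recognition.fix (kFaith hs.rep) (grpsJoin 𝒞), w = 0 := by
    intro w hw
    obtain ⟨b, rfl⟩ := hs.vec_surj w
    refine hs.vec_eq_zero.2 (mem_inf.2 ⟨b.2, hX2 b fun x hx => ?_⟩)
    exact hs.rep_vec_eq.1 (hw _ (hEgrps (mem_map_of_mem π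
      (show (⟨x, hXK hx⟩ : ↥K) ∈ X.subgroupOf K from hx))))
  -- the module `[W, X]`
  haveI : IsMulCommutative W₁ := PLocal.isMulCommutative_of_le hWe.1 hW₁W
  set τ := FFBlocks.convRep hKW₁
  set Kr := hs.rep.ker.map K.subtype with hKr
  have hKKr : K ≤ normalizer (Kr : Set G) := le_normalizer_map_subtype inferInstance
  have hKrM : Kr ≤ M := by
    rintro _ ⟨g, hg, rfl⟩
    exact mem_subgroupOf.1 (hmod.ker_le hg)
  have hker : hs.rep.ker ≤ τ.ker := fun g hg => by
    refine MonoidHom.mem_ker.2 ((FFBlocks.convRep_eq_one_iff hKW₁).2 ?_)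
    obtain ⟨a, b, ha, hb, ⟨k, hk⟩, hbc, hab⟩ :=
      LocalStructure.exists_pPart_mul (p := 2) (g : G)
    have hgKr : (g : G) ∈ Kr := mem_map_of_mem _ hg
    have haKr : a ∈ Kr := zpowers_le.2 hgKr ha
    have hbKr : b ∈ Kr := zpowers_le.2 hgKr hb
    have hKrK : Kr ≤ K := map_subtype_le _
    -- the odd part
    have hbW : b ∈ centralizer (W : Set G) := mem_centralizer_iff.2 fun w hw => by
      obtain ⟨z, hz, e⟩ := id hbKr
      have hbw : ⁅b, w⁆ ∈ W₀ := e ▸ hs.rep_eq_one.1 (MonoidHom.mem_ker.1 hz) w hw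
      exact (LocalStructure.commute_of_stab (k := 1) hbc
        (by rw [pow_one]; exact hWe.2 _ hbw.1)
        (mem_centralizer_iff.1 hbw.2 b (LocalStructure.mem_pResOf (hKrK hbKr) hbc))).eq.symm
    -- the two part
    have haP : a ∈ P := by
      have hap : IsPGroup 2 (zpowers a) := IsPGroup.of_card (n := k) (by rw [Nat.card_zpowers, hk])
      obtain ⟨S₁, hS₁⟩ := (hap.comap_subtype (K := K)).exists_le_sylow
      obtain ⟨c, hc⟩ := MulAction.exists_smul_eq (↥K) S₁ S
      have h1 : c * ⟨a, hKrK haKr⟩ * c⁻¹ ∈ ((c • S₁ : Sylow 2 ↥K) : Subgroup ↥K) :=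
        ⟨⟨a, hKrK haKr⟩, hS₁ (mem_subgroupOf.2 (mem_zpowers a)), rfl⟩
      rw [hc, hS] at h1
      have h2 : (c : G) * a * (c : G)⁻¹ ∈ P := m.inf_normal_le h hKrK hKKr hKrM
        (mem_inf.2 ⟨mem_subgroupOf.1 h1, (mem_normalizer_iff.1 (hKKr c.2) a).1 haKr⟩)
      exact (mem_normalizer_iff.1 (hKP c.2) a).2 h2
    rw [← hab]
    exact mul_mem (hPW₁ haP) (centralizer_le (SetLike.coe_subset_coe.2 hW₁W) hbW)
  let ρ : KImg hs.rep →* AddMonoid.End (Additive W₁) := QuotientGroup.lift hs.rep.ker τ hker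
  let incl : Additive W₁ →+ hs.Mod :=
    MonoidHom.toAdditive (hs.vecHom.comp (Subgroup.inclusion hW₁W))
  have hρ : ∀ (g : ↥K) (u : Additive W₁), ((Additive.toMul (ρ (π g) u) : W₁) : G) =
      (g : G) * ((Additive.toMul u : W₁) : G) * (g : G)⁻¹ := fun g u => rfl
  have hlift : Lift (kFaith hs.rep) ρ incl E := by
    refine ⟨fun q u => ?_, fun u => ?_, ?_, ?_, ?_, fun q hq => ?_⟩
    · obtain ⟨g, rfl⟩ := QuotientGroup.mk'_surjective hs.rep.ker q
      exact congrArg hs.vec (Subtype.ext rfl)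
    · refine Additive.toMul.injective (Subtype.ext ?_)
      show ((Additive.toMul u : W₁) : G) * ((Additive.toMul u : W₁) : G) = 1
      rw [← pow_two]
      exact hWe.2 _ (hW₁W (Additive.toMul u : W₁).2)
    · rintro _ ⟨x, hx, rfl⟩ u hu
      refine Additive.toMul.injective (Subtype.ext ?_)
      rw [hρ]
      have h1 : ((Additive.toMul u : W₁) : G) ∈ W₀ := hs.vec_eq_zero.1 hu
      rw [mem_centralizer_iff.1 h1.2 _ (mem_subgroupOf.1 hx), mul_inv_cancel_right]
    · rintro _ ⟨x, hx, rfl⟩ w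
      obtain ⟨b, rfl⟩ := hs.vec_surj w
      have hm : ⁅(x : G), (b : G)⁆ ∈ W₁ := hW₁X x (mem_subgroupOf.1 hx) b b.2
      refine ⟨Additive.ofMul ⟨_, hm⟩, ?_⟩
      show hs.vec ⟨_, hW₁W hm⟩ = hs.rep x (hs.vec b) - hs.vec b
      rw [eq_sub_iff_add_eq, ← hs.vec_mul, hs.rep_vec]
      refine congrArg hs.vec (Subtype.ext ?_)
      show ⁅(x : G), (b : G)⁆ * b = x * b * (x : G)⁻¹
      simp only [commutatorElement_def]; group
    · exact ((normal_subgroupOf_iff_le_normalizer hXK).2 m.K_normX).map _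
        (QuotientGroup.mk'_surjective _)
    · obtain ⟨g, rfl⟩ := QuotientGroup.mk'_surjective hs.rep.ker q
      obtain ⟨k, hk⟩ := LocalStructure.exists_pow_mem_pResOf (p := 2) (K := K) g.2
      refine LocalStructure.mem_of_coprime_of_pow_mem (k := k) hq ?_
      rw [← map_pow]
      exact mem_map_of_mem _ (mem_subgroupOf.2 (by simpa using hk))
  have hquad : ∀ c ∈ 𝒞, ∀ a ∈ c.1, ∀ b ∈ c.1, ∀ u, ρ a (ρ b u - u) = ρ b u - u := by
    have hqA : ∀ a ∈ Ā, ∀ b ∈ Ā, ∀ u, ρ a (ρ b u - u) = ρ b u - u := by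
      rintro _ ⟨a, ha, rfl⟩ _ ⟨b, hb, rfl⟩ u
      refine Additive.toMul.injective (Subtype.ext ?_)
      rw [hρ, toMul_sub, div_eq_mul_inv, Subgroup.coe_mul, Subgroup.coe_inv, hρ]
      have hm : ⁅(b : G), ((Additive.toMul u : W₁) : G)⁆ ∈ ⁅W, A⁆ :=
        commutatorElement_mem_swap (commutator_mem_commutator
          (hW₁W (Additive.toMul u : W₁).2) (mem_subgroupOf.1 hb))
      have hc := (PLocal.commutator_eq_bot_iff_forall.1 hAq) _ hm _ (mem_subgroupOf.1 ha)
      rw [commutatorElement_def] at hc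
      rw [← hc, mul_inv_cancel_right]
    intro c hc a ha b hb u
    obtain ⟨s, -, hsd, -⟩ := hC.trans d (h𝒟 hd) c hc
    rw [← hsd] at ha hb
    obtain ⟨a', ha', rfl⟩ := ha
    obtain ⟨b', hb', rfl⟩ := hb
    simp only [MulEquiv.coe_toMonoidHom, MulAut.conj_apply]
    have e : ρ (s * b' * s⁻¹) u - u = ρ s (ρ b' (ρ s⁻¹ u) - ρ s⁻¹ u) := by
      rw [map_sub, SL2Recognition.apply_mul, SL2Recognition.apply_mul,
        SL2Recognition.apply_apply_inv]
    rw [e, SL2Recognition.apply_mul, SL2Recognition.apply_mul, SL2Recognition.apply_inv_apply,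
      hqA a' (hdA ha') b' (hdA hb')]
  -- conclusion
  intro t ht
  obtain ⟨htT, htX⟩ := mem_inf.1 ht
  refine h.defR.ge (mem_inf.2 ⟨htT, mem_centralizer_iff.2 fun v hv => ?_⟩)
  have hvW : v ∈ W := le_hull hv
  have htK : t ∈ K := hXK htX
  by_cases hv0 : hs.vec ⟨v, hvW⟩ = 0
  · exact (mem_centralizer_iff.1 (hs.vec_eq_zero.1 hv0).2 t htX).symm
  have hvfix : hs.vec ⟨v, hvW⟩ ∈ SL2Recognition.fix (kFaith hs.rep) (rootsJoin 𝒞) := by
    refine SL2Recognition.fix_anti _ hrootJ ?_
    rintro _ ⟨j, hj, rfl⟩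
    refine hs.rep_vec_eq.2 ?_
    rw [commutatorElement_eq_one_iff_mul_comm.2
      (mem_centralizer_iff.1 (h.R_C (hJR (mem_subgroupOf.1 hj))) v hv).symm]
    exact one_mem _
  have hvne : ∀ c ∈ 𝒞, hs.vec ⟨v, hvW⟩ ∉ SL2Recognition.fix (kFaith hs.rep) c.2 := by
    intro c hc hfx
    refine hv0 ?_
    let Kv : Subgroup ↥K :=
      { carrier := {g | hs.rep g (hs.vec ⟨v, hvW⟩) = hs.vec ⟨v, hvW⟩}
        one_mem' := SL2Recognition.apply_one _ _
        mul_mem' := fun {p q} hp hq => by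
          show hs.rep (p * q) _ = _
          rw [SL2Recognition.apply_mul, show hs.rep q _ = _ from hq]; exact hp
        inv_mem' := fun {p} hp => by
          show hs.rep p⁻¹ _ = _
          conv_lhs => rw [← show hs.rep p (hs.vec ⟨v, hvW⟩) = _ from hp]
          rw [SL2Recognition.apply_inv_apply] }
    have hall : Kv.map K.subtype = K := by
      refine m.eq_of ?_ ?_ (map_subtype_le _) fun hle => ?_
      · intro r hr
        refine ⟨⟨r, m.R_K hr⟩, hs.rep_vec_eq.2 ?_, rfl⟩
        show ⁅r, v⁆ ∈ W₀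
        rw [commutatorElement_eq_one_iff_mul_comm.2 (mem_centralizer_iff.1 (h.R_C hr) v hv).symm]
        exact one_mem _
      · exact fun q hq => ⟨⟨q, m.Q_K hq⟩, hs.rep_vec_eq.2 (hPW₀ q (m.Q_le_P h hq) v hvW), rfl⟩
      · refine hgrpsMb (iSup_le fun e => ?_)
        have hcM : c.2 ≤ Mb := fun q hq => by
          obtain ⟨g, rfl⟩ := QuotientGroup.mk'_surjective hs.rep.ker q
          exact mem_map_of_mem _ (mem_subgroupOf.2 (hle ⟨g, hfx _ hq, rfl⟩))
        obtain ⟨s, hs', -, hse⟩ := hC.trans c hc e.1 e.2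
        show e.1.2 ≤ Mb
        rw [← hse]
        exact (cj_mono hcM).trans (cj_le_of_mem (hT'Mb hs'))
    refine h0 _ fun q _ => ?_
    obtain ⟨g, rfl⟩ := QuotientGroup.mk'_surjective hs.rep.ker q
    obtain ⟨z, hz, e⟩ := hall.ge g.2
    exact (Subtype.ext e : z = g) ▸ hz
  obtain ⟨u, hu, htu⟩ := hlift.exists_fixed hC hEgrps hquad h0 hvfix hvne
    (t := π ⟨t, htK⟩)
    (mem_map_of_mem π (hS.ge (show (⟨t, htK⟩ : ↥K) ∈ (T : Subgroup G).subgroupOf K from htT)))
    (mem_map_of_mem π (show (⟨t, htK⟩ : ↥K) ∈ X.subgroupOf K from htX))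
  set b : G := ((Additive.toMul u : W₁) : G)
  have hb0 : b⁻¹ * v ∈ W₀ := hs.vec_eq.1 (show hs.vec ⟨b, hW₁W (Additive.toMul u : W₁).2⟩ = _ from hu)
  have htb : t * b = b * t := by
    have h1 := congrArg (fun z => ((Additive.toMul z : W₁) : G)) htu
    rw [hρ] at h1
    exact mul_inv_eq_iff_eq_mul.1 h1
  have htw := mem_centralizer_iff.1 hb0.2 t htX
  calc v * t = b * (b⁻¹ * v * t) := by group
    _ = b * (t * (b⁻¹ * v)) := by rw [htw]
    _ = b * t * (b⁻¹ * v) := by group
    _ = t * v := by rw [← htb]; group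

end Min

end CfsgLib.Qrc85
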