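import Cfsg.Agent.Qrc85.Setup
import Cfsg.Agent.PushAut85.Select

/-!
# Pushing up: if `R` is a Sylow subgroup of `O²(K)R` then `M₀` and `H` share a normal subgroup of `R`
-/

set_option autoImplicit false
set_option linter.style.haveILetI false
set_option linter.unusedSectionVars false

namespace CfsgLib.Qrc85

open Subgroup Cfsg CfsgLib.FFCells CfsgLib.PushParabolic85 CfsgLib.PushAut85
open scoped commutatorElement

variable {G : Type*} [Group G] [Finite G] {T : Sylow 2 G} {M M₀ H V R K : Subgroup G}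

theorem push (h : Hyp T M M₀ H V R) (m : Min T M H R K) (hR : R ≠ ⊥)
    (hSX : (T : Subgroup G) ⊓ LocalStructure.pResOf 2 K ≤ R) :
    ∃ R₀ : Subgroup G, R₀ ≠ ⊥ ∧ R₀ ≤ R ∧ M₀ ⊔ H ≤ normalizer (R₀ : Set G) := by
  haveI : Fact (Nat.Prime 2) := ⟨Nat.prime_two⟩
  have hRT := h.R_T
  have hTH := h.T_H
  have hTM := h.T_M
  have hTM₀ := h.T_M₀
  have hRM := h.M₀_normR
  have hTR := h.T_normR
  set E₀ := LocalStructure.pResOf 2 K with hE₀
  have hE₀K : E₀ ≤ K := LocalStructure.pResOf_le K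
  set H₁ := E₀ ⊔ R
  have hH₁K : H₁ ≤ K := sup_le hE₀K m.R_K
  have hH₁H : H₁ ≤ H := hH₁K.trans m.K_H
  have hRH₁ : R ≤ H₁ := le_sup_right
  have hH₁n : K ≤ normalizer (H₁ : Set G) := m.sup_eq.ge.trans (sup_le
    (le_sup_left.trans le_normalizer)
    fun t ht => mem_normalizer_of_cj_le (by
      rw [cj_sup]
      exact sup_le_sup (cj_eq_self.2 (m.K_normX ht.2)).le (cj_eq_self.2 (hTR ht.1)).le))
  have hTH₁ : (T : Subgroup G) ⊓ H₁ = R := by
    refine le_antisymm (fun x hx => ?_) (le_inf hRT hRH₁)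
    obtain ⟨a, ha, r, hr, rfl⟩ := exists_eq_mul (m.R_K.trans m.K_normX) hx.2
    refine mul_mem (hSX (mem_inf.2 ⟨?_, ha⟩)) hr
    simpa using mul_mem (mem_inf.1 hx).1 (inv_mem (hRT hr))
  have hsylH₁ : ∀ X : Subgroup G, X ≤ H₁ → IsPGroup 2 X → R ≤ X → X = R := fun X hX hXp hRX => by
    obtain ⟨Sy, hSy⟩ := m.exists_sylow
    obtain ⟨Q', hQ'⟩ := (hXp.comap_subtype (K := K)).exists_le_sylow
    obtain ⟨k, hk⟩ := MulAction.exists_smul_eq (↥K) Q' Sy
    have hkX : cj (k : G) X ≤ (T : Subgroup G) ⊓ H₁ := by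
      refine le_inf ?_ ((cj_mono hX).trans (cj_eq_self.2 (hH₁n k.2)).le)
      rintro _ ⟨x, hx, rfl⟩
      have h1 : k * ⟨x, hH₁K (hX hx)⟩ * k⁻¹ ∈ ((k • Q' : Sylow 2 ↥K) : Subgroup ↥K) :=
        ⟨⟨x, hH₁K (hX hx)⟩, hQ' (mem_subgroupOf.2 hx), rfl⟩
      rw [hk, hSy] at h1
      exact h1
    refine (eq_of_le_of_card_ge hRX ?_).symm
    rw [hTH₁] at hkX
    exact (card_cj (k : G) X).ge.trans (card_le_of_le hkX)
  have hsup : ∀ X : Subgroup G, X ≤ H → ¬ X ≤ M → X ⊔ (T : Subgroup G) = H := fun X hX hXM =>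
    h.minimal _ le_sup_right (sup_le hX hTH) fun hh => hXM (le_sup_left.trans hh)
  have hH₁K' : ¬ H₁ ≤ M := fun hh => m.notM
    (m.sup_eq.ge.trans (sup_le (le_sup_left.trans hh) (inf_le_left.trans hTM)))
  obtain ⟨P, ⟨hRP, hPH₁, hPK⟩, hPmin⟩ := wellFounded_lt.has_min
    {X : Subgroup G | R ≤ X ∧ X ≤ H₁ ∧ ¬ X ≤ M} ⟨H₁, hRH₁, le_rfl, hH₁K'⟩
  have hPH : P ≤ H := hPH₁.trans hH₁H
  have hsub : ∀ X : Subgroup G, R ≤ X → X ≤ P → X ≠ P → X ≤ M := fun X h1 h2 h3 => by
    by_contra h4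
    exact hPmin X ⟨h1, h2.trans hPH₁, h4⟩ (lt_of_le_of_ne h2 h3)
  -- a subgroup invariant under `N(R)` and `P` will do
  have hdone : ∀ C : Subgroup G, C ≠ ⊥ → C ≤ R → M₀ ≤ normalizer (C : Set G) →
      P ≤ normalizer (C : Set G) →
      ∃ R₀ : Subgroup G, R₀ ≠ ⊥ ∧ R₀ ≤ R ∧ M₀ ⊔ H ≤ normalizer (R₀ : Set G) :=
    fun C h1 h2 h3 h4 => ⟨C, h1, h2, sup_le h3
      ((hsup P hPH hPK).ge.trans (sup_le h4 (hTM₀.trans h3)))⟩
  by_cases hPR : P ≤ normalizer (R : Set G)
  · exact hdone R hR le_rfl hRM hPR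
  have hRPne : P ≠ R := fun e => hPR (e ▸ le_normalizer)
  have hBn : normalizer (R : Set G) ≤ normalizer (baumannSubgroupOf 2 R : Set G) :=
    LocalEven50.normalizer_le_normalizer_baumann R
  by_cases hc : ∃ C : Subgroup G, C ≤ baumannSubgroupOf 2 R ∧ C ≠ ⊥ ∧
      (C.subgroupOf (baumannSubgroupOf 2 R)).Characteristic ∧ P ≤ normalizer (C : Set G)
  · obtain ⟨C, h1, h2, h3, h4⟩ := hc
    exact hdone C h2 (h1.trans inf_le_left)
      (hRM.trans (hBn.trans (normalizer_le_of_characteristic h1 h3))) h4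
  by_cases hz : P ≤ normalizer (omegaOneCenter 2 R : Set G)
  · refine hdone _ (fun e => ?_) (LocalEven50.omegaOneCenter_le _)
      (hRM.trans (LocalEven50.normalizer_le_normalizer_omegaOneCenter _)) hz
    exact (PushAut85.omegaOneCenter_ne_bot (T.isPGroup'.to_le hRT) hR) e
  -- `P` is `2`-minimal of characteristic two
  obtain ⟨S, hS⟩ : ∃ S : Sylow 2 ↥P, (S : Subgroup ↥P) = R.subgroupOf P := by
    obtain ⟨S, hS⟩ := ((T.isPGroup'.to_le hRT).comap_subtype :
      IsPGroup 2 (R.subgroupOf P)).exists_le_sylow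
    refine ⟨S, le_antisymm (fun x hx => ?_) hS⟩
    refine mem_subgroupOf.2 ?_
    rw [← hsylH₁ ((S : Subgroup ↥P).map P.subtype) ((map_subtype_le _).trans hPH₁)
      (S.isPGroup'.map _) (by
        have := map_mono (f := P.subtype) (show R.subgroupOf P ≤ (S : Subgroup ↥P) from hS)
        rwa [subgroupOf_map_subtype, inf_eq_left.2 hRP] at this)]
    exact mem_map_of_mem _ hx
  have hgenP : ∀ X : Subgroup G, R ≤ X → X ≤ P → P ≤ normalizer (X : Set G) → X = P := by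
    intro X hRX hXP hXn
    by_contra hne
    haveI : (X.subgroupOf P).Normal := (normal_subgroupOf_iff_le_normalizer hXP).2 hXn
    have h1 := Sylow.normalizer_sup_eq_top' (N := X.subgroupOf P) S (hS.le.trans (comap_mono hRX))
    set NP := P ⊓ normalizer (R : Set G)
    have h2 : NP ≤ M := hsub NP (le_inf hRP le_normalizer) inf_le_left
      fun e => hPR (inf_eq_left.1 e)
    have h3 : normalizer ((S : Subgroup ↥P) : Set ↥P) ≤ NP.subgroupOf P := fun x hx => by
      refine mem_subgroupOf.2 (mem_inf.2 ⟨x.2, mem_normalizer_of_cj_le ?_⟩)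
      rintro _ ⟨r, hr, rfl⟩
      have h4 := (mem_normalizer_iff.1 hx ⟨r, hRP hr⟩).1 (hS ▸ mem_subgroupOf.2 hr)
      rw [hS] at h4
      exact h4
    refine hPK fun y hy => ?_
    have h5 : (⟨y, hy⟩ : ↥P) ∈ M.subgroupOf P :=
      (sup_le (h3.trans (comap_mono h2)) (comap_mono (hsub X hRX hXP hne))) (h1.ge (mem_top _))
    exact h5
  have hcoat : IsCoatom (M.subgroupOf P) := by
    refine ⟨fun e => hPK (subgroupOf_eq_top.1 e), fun X hX => ?_⟩
    by_contra hne
    have hRX : R ≤ X.map P.subtype := fun r hr =>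
      ⟨⟨r, hRP hr⟩, hX.le (mem_subgroupOf.2 (hTM (hRT hr))), rfl⟩
    have h2 := hsub _ hRX (map_subtype_le _) fun e => hne (Subgroup.map_injective
      P.subtype_injective (e.trans (by rw [← MonoidHom.range_eq_map, P.range_subtype])))
    exact hX.not_ge fun x hx => mem_subgroupOf.2 (h2 (mem_map_of_mem _ hx))
  have hpmin : IsPMinimal 2 ↥P := by
    refine isPMinimal_of_unique S (fun hn => hPR ?_) hcoat
      (hS.le.trans (comap_mono (hRT.trans hTM))) (fun M' hM' hSM' => ?_)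
    · exact (normal_subgroupOf_iff_le_normalizer hRP).1 (hS ▸ hn)
    · refine hM'.le_iff_eq hcoat.1 |>.1 ?_ |>.symm
      intro x hx
      refine mem_subgroupOf.2 (hsub (M'.map P.subtype) (fun r hr =>
        ⟨⟨r, hRP hr⟩, hSM' (hS ▸ mem_subgroupOf.2 hr), rfl⟩) (map_subtype_le _) (fun e => hM'.1
          (Subgroup.map_injective P.subtype_injective
            (e.trans (by rw [← MonoidHom.range_eq_map, P.range_subtype])))) (mem_map_of_mem _ hx))
  -- `O₂(H₁)` is self-centralising in `H₁`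
  set O := pCoreOf 2 K
  have hOp : IsPGroup 2 O := LocalStructure.pCore_isPGroup.map _
  have hKO : K ≤ normalizer (O : Set G) := LocalStructure.le_normalizer_pCoreOf K
  set O₁ := O ⊓ H₁
  have hO₁R : O₁ ≤ R := hTH₁ ▸ inf_le_inf_right _ (m.P_le_S.trans inf_le_left)
  have hKO₁ : K ≤ normalizer (O₁ : Set G) := fun x hx => mem_normalizer_of_cj_le
    (le_inf ((cj_mono inf_le_left).trans (cj_eq_self.2 (hKO hx)).le)
      ((cj_mono inf_le_right).trans (cj_eq_self.2 (hH₁n hx)).le))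
  have hC1 : H₁ ⊓ centralizer (O₁ : Set G) ≤ O₁ := by
    set C := H₁ ⊓ centralizer (O₁ : Set G)
    have hCH : K ≤ normalizer (C : Set G) := fun x hx => mem_normalizer_of_cj_le
      (le_inf ((cj_mono inf_le_left).trans (cj_eq_self.2 (hH₁n hx)).le)
        ((cj_mono inf_le_right).trans
          (cj_eq_self.2 (CharPLocal.normalizer_le_normalizer_centralizer _ (hKO₁ hx))).le))
    have hCp : IsPGroup 2 C := LocalStructure.isPGroup_of_coprime_eq_one fun x hx hxo => by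
      obtain ⟨hxH₁, hxc⟩ := mem_inf.1 hx
      have hxO : x ∈ centralizer (O : Set G) :=
        BlockNormal85.coprime_centralizes_of_series hOp hxo (hKO (hH₁K hxH₁))
          (P := O₁) (V := ⊥)
          (le_inf (Coprime.commutator_le_of_le_normalizer ((zpowers_le.2 (hH₁K hxH₁)).trans hKO))
            (by
              rw [commutator_comm]
              exact Coprime.commutator_le_of_le_normalizer ((LocalStructure.pCoreOf_le K).trans hH₁n)
                |>.trans' (commutator_mono (zpowers_le.2 hxH₁) le_rfl)))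
          (by
            rw [le_bot_iff, commutator_eq_bot_iff_le_centralizer, le_centralizer_iff, zpowers_le]
            exact hxc)
          (commutator_bot_left _)
      exact LocalStructure.eq_one_of_coprime_of_mem hOp
        (m.charP h (mem_inf.2 ⟨hH₁K hxH₁, hxO⟩)) hxo
    exact le_inf (LocalStructure.le_pCoreOf (inf_le_left.trans hH₁K) hCH hCp) inf_le_left
  have hO₁P : O₁ ≤ pCoreOf 2 P :=
    LocalStructure.le_pCoreOf (hO₁R.trans hRP) ((hPH₁.trans hH₁K).trans hKO₁)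
      (hOp.to_le inf_le_left)
  have hcharP : centralizer (pCore 2 ↥P : Set ↥P) ≤ pCore 2 ↥P := fun x hx => by
    have h1 : (x : G) ∈ O₁ := hC1 (mem_inf.2 ⟨hPH₁ x.2, mem_centralizer_iff.2 fun y hy => by
      obtain ⟨z, hz, rfl⟩ := hO₁P hy
      exact congrArg Subtype.val (mem_centralizer_iff.1 hx z hz)⟩)
    obtain ⟨z, hz, e⟩ := hO₁P h1
    rwa [← Subtype.ext e]
  obtain ⟨V₁, hV0, d⟩ := exists_pushData hRP ⟨S, hS⟩ hpmin hcharP
    (fun C h1 h2 h3 h4 => hc ⟨C, h1, h2, h3, h4⟩) hz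
  have hPE : R ⊔ LocalStructure.pResOf 2 P = P := by
    have h1 := congrArg (Subgroup.map P.subtype) (LocalStructure.sylow_sup_pResidual S)
    rwa [Subgroup.map_sup, hS, subgroupOf_map_subtype, inf_eq_left.2 hRP,
      LocalStructure.map_pResidual, ← MonoidHom.range_eq_map, P.range_subtype] at h1
  have hTV : ∀ t ∈ (T : Subgroup G), cj t V₁ ≤ pCoreOf 2 P := fun t ht => by
    by_contra hO
    exact false_of_two_parabolics d hgenP hPE hRPne (hTR ht) hO (LocalStructure.pCoreOf_le H)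
      (LocalStructure.pCoreOf_isPGroup H) h.H_normQ h.charQ h.Q_T hTR hPH
      ((cj_mono hPH).trans (cj_le_of_mem (hTH ht)))
  have hall := cj_le_of_even h.even T d hgenP hPE hRPne hRT hTM₀ hRM hTV
  set R₀ : Subgroup G := ⨆ x : ↥M₀, cj (x : G) V₁
  have hR₀O : R₀ ≤ pCoreOf 2 P := iSup_le fun x => hall x x.2
  have hVR₀ : V₁ ≤ R₀ := (cj_one V₁).ge.trans (le_iSup (fun x : ↥M₀ => cj (x : G) V₁) 1)
  have hMR₀ : M₀ ≤ normalizer (R₀ : Set G) := fun x hx => mem_normalizer_of_cj_le (by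
    rw [cj, Subgroup.map_iSup]
    exact iSup_le fun y => (cj_cj x (y : G) V₁).le.trans
      (le_iSup (fun z : ↥M₀ => cj (z : G) V₁) ⟨x * y, mul_mem hx y.2⟩))
  refine hdone R₀ (fun e => hV0 (le_bot_iff.1 (e ▸ hVR₀))) (hR₀O.trans d.O_le) hMR₀ ?_
  rw [← hPE]
  refine sup_le ((hRT.trans hTM₀).trans hMR₀) fun e he => mem_normalizer_of_cj_le ?_
  rintro _ ⟨u, hu, rfl⟩
  rw [MulEquiv.coe_toMonoidHom, MulAut.conj_apply,
    show e * u * e⁻¹ = ⁅u, e⁆⁻¹ * u by simp only [commutatorElement_def]; group]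
  exact mul_mem (inv_mem (hVR₀ (d.comm (commutator_mem_commutator (hR₀O hu) he)))) hu

end CfsgLib.Qrc85
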