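import Cfsg.Agent.Qrc85.Basic
import Cfsg.Agent.PushAut85.Select
import Cfsg.Agent.FFBlocks.Setup

/-!
# The hypotheses of the qrc-lemma and a minimal subgroup over `R` and `O₂(H)` outside `M`
-/

set_option autoImplicit false
set_option linter.style.haveILetI false
set_option linter.unusedSectionVars false

namespace CfsgLib.Qrc85

open Subgroup Cfsg CfsgLib.FFCells CfsgLib.PushParabolic85
open scoped commutatorElement

variable {G : Type*} [Group G] [Finite G]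

/-- The conclusion. -/
def Goal (M₀ H V R : Subgroup G) : Prop :=
  (∃ R₀ : Subgroup G, R₀ ≠ ⊥ ∧ R₀ ≤ R ∧ M₀ ⊔ H ≤ normalizer (R₀ : Set G)) ∨
    (¬ V ≤ pCoreOf 2 H ∧ CubicParamLE M₀ V 2) ∨ QuadParamLE M₀ V 2

/-- The hypotheses. -/
structure Hyp (T : Sylow 2 G) (M M₀ H V R : Subgroup G) : Prop where
  even : IsOfEvenCharacteristic G
  T_M₀ : (T : Subgroup G) ≤ M₀
  M₀_M : M₀ ≤ M
  T_H : (T : Subgroup G) ≤ H
  H_core : pCore 2 ↥H ≠ ⊥
  notM : ¬ H ≤ M
  minimal : ∀ X : Subgroup G, (T : Subgroup G) ≤ X → X ≤ H → ¬ X ≤ M → X = H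
  elem : IsElementaryAbelian 2 V
  normV : M₀ ≤ normalizer (V : Set G)
  V_T : V ≤ (T : Subgroup G)
  defR : R = (T : Subgroup G) ⊓ centralizer (V : Set G)
  coreR : R = pCoreOf 2 M₀
  norm : H ⊓ M ≤ normalizer (LocalStructure.pResOf 2 M₀ : Set G) ∨
    H ⊓ M ≤ normalizer (V : Set G)

/-- A minimal subgroup over `R` and `O₂(H)` outside `M` with Sylow subgroup in `T`. -/
structure Min (T : Sylow 2 G) (M H R K : Subgroup G) : Prop where
  R_K : R ≤ K
  Q_K : pCoreOf 2 H ≤ K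
  K_H : K ≤ H
  notM : ¬ K ≤ M
  syl : ∀ X : Subgroup G, X ≤ K → IsPGroup 2 X → (T : Subgroup G) ⊓ K ≤ X → X ≤ (T : Subgroup G)
  key : ∀ K' : Subgroup G, R ≤ K' → pCoreOf 2 H ≤ K' → K' ≤ K → K' ≠ K → K' ≤ M

namespace Hyp

variable {T : Sylow 2 G} {M M₀ H V R : Subgroup G} (h : Hyp T M M₀ H V R)
include h

theorem T_M : (T : Subgroup G) ≤ M := h.T_M₀.trans h.M₀_M

theorem T_normV : (T : Subgroup G) ≤ normalizer (V : Set G) := h.T_M₀.trans h.normV

theorem R_T : R ≤ (T : Subgroup G) := h.defR.le.trans inf_le_left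

theorem R_C : R ≤ centralizer (V : Set G) := h.defR.le.trans inf_le_right

theorem V_R : V ≤ R :=
  h.defR.ge.trans' (le_inf h.V_T (le_centralizer_iff_isMulCommutative.2 h.elem.1))

theorem M₀_normR : M₀ ≤ normalizer (R : Set G) :=
  h.coreR ▸ LocalStructure.le_normalizer_pCoreOf M₀

theorem T_normR : (T : Subgroup G) ≤ normalizer (R : Set G) := h.T_M₀.trans h.M₀_normR

theorem H_normQ : H ≤ normalizer (pCoreOf 2 H : Set G) := LocalStructure.le_normalizer_pCoreOf H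

theorem Q_T : pCoreOf 2 H ≤ (T : Subgroup G) := by
  haveI : Fact (Nat.Prime 2) := ⟨Nat.prime_two⟩
  exact le_sup_left.trans (T.is_maximal'
    ((LocalStructure.pCoreOf_isPGroup H).to_sup_of_normal_left' T.isPGroup' (h.T_H.trans h.H_normQ))
    le_sup_right).le

theorem charQ : H ⊓ centralizer (pCoreOf 2 H : Set G) ≤ pCoreOf 2 H :=
  PushAut85.inf_centralizer_core_le h.even T h.T_H h.H_core

/-- `R` is weakly closed in `T` with respect to `H ∩ M`. -/
theorem weakClosed {n : G} (hn : n ∈ H ⊓ M) (hT : cj n R ≤ (T : Subgroup G)) : cj n R = R := by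
  haveI : Fact (Nat.Prime 2) := ⟨Nat.prime_two⟩
  refine eq_of_le_of_card_ge ?_ (card_cj n R).ge
  rcases h.norm with hY | hV
  · set Y := LocalStructure.pResOf 2 M₀
    set O := pCoreOf 2 Y
    have hYM₀ : Y ≤ M₀ := LocalStructure.pResOf_le M₀
    have hM₀Y : M₀ ≤ normalizer (Y : Set G) :=
      le_normalizer.trans (LocalStructure.normalizer_le_normalizer_pResOf M₀)
    have hOY : O ≤ Y := LocalStructure.pCoreOf_le Y
    have hM₀O : M₀ ≤ normalizer (O : Set G) :=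
      hM₀Y.trans (LocalStructure.normalizer_le_normalizer_pCoreOf Y)
    have hOR : O ≤ R := h.coreR ▸ LocalStructure.le_pCoreOf (hOY.trans hYM₀) hM₀O
      (LocalStructure.pCoreOf_isPGroup Y)
    have hRO : ∀ a ∈ Y, ∀ r ∈ R, ⁅a, r⁆ ∈ O := fun a ha r hr => by
      have hRY : R ⊓ Y ≤ O := LocalStructure.le_pCoreOf inf_le_right
        (fun x hx => mem_normalizer_of_cj_le (le_inf
          ((cj_mono inf_le_left).trans (cj_eq_self.2 (h.M₀_normR (hYM₀ hx))).le)
          ((cj_mono inf_le_right).trans (cj_le_of_mem hx))))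
        ((T.isPGroup'.to_le h.R_T).to_le inf_le_left)
      refine hRY (mem_inf.2 ⟨?_, ?_⟩)
      · rw [commutatorElement_def]
        exact mul_mem ((mem_normalizer_iff.1 (h.M₀_normR (hYM₀ ha)) r).1 hr) (inv_mem hr)
      · rw [commutatorElement_def, mul_assoc a r, mul_assoc a]
        exact mul_mem ha ((mem_normalizer_iff.1
          (hM₀Y (h.coreR ▸ LocalStructure.pCoreOf_le M₀ $ hr)) _).1 (inv_mem ha))
    set W := (T : Subgroup G) ⊓ centMod Y O
    have hOW : O ≤ W := le_inf (hOR.trans h.R_T) fun x hx => mem_centMod.2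
      ⟨le_normalizer hx, fun a ha => hRO a ha x (hOR hx)⟩
    have hWM₀ : W ≤ M₀ := inf_le_left.trans h.T_M₀
    have hTW : ∀ t ∈ (T : Subgroup G), cj t W ≤ W := fun t ht => by
      rintro _ ⟨w, hw, rfl⟩
      obtain ⟨hwT, hwc⟩ := mem_inf.1 hw
      obtain ⟨hwO, hwY⟩ := mem_centMod.1 hwc
      have htO := hM₀O (h.T_M₀ ht)
      rw [MulEquiv.coe_toMonoidHom, MulAut.conj_apply]
      refine mem_inf.2 ⟨mul_mem (mul_mem ht hwT) (inv_mem ht), mem_centMod.2
        ⟨mul_mem (mul_mem htO hwO) (inv_mem htO), fun a ha => ?_⟩⟩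
      have ha' : t⁻¹ * a * t ∈ Y := by
        simpa using (mem_normalizer_iff.1 (hM₀Y (inv_mem (h.T_M₀ ht))) a).1 ha
      rw [show ⁅a, t * w * t⁻¹⁆ = t * ⁅t⁻¹ * a * t, w⁆ * t⁻¹ by
        simp only [commutatorElement_def]; group]
      exact (mem_normalizer_iff.1 htO _).1 (hwY _ ha')
    have hYW : ∀ y ∈ Y, cj y W ≤ W := fun y hy => by
      rintro _ ⟨w, hw, rfl⟩
      rw [MulEquiv.coe_toMonoidHom, MulAut.conj_apply,
        show y * w * y⁻¹ = ⁅y, w⁆ * w by simp only [commutatorElement_def]; group]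
      exact mul_mem (hOW ((mem_centMod.1 (mem_inf.1 hw).2).2 y hy)) hw
    have hgen : Y ⊔ (T : Subgroup G) = M₀ := by
      obtain ⟨S, hS⟩ := LocalStructure.exists_sylow_eq T.isPGroup' h.T_M₀ (fun h' =>
        T.not_dvd_index' (index_ne_zero_of_finite)
          (h'.trans ⟨M₀.index, (relIndex_mul_index h.T_M₀).symm⟩))
      have h1 := congrArg (Subgroup.map M₀.subtype) (LocalStructure.sylow_sup_pResidual S)
      rw [Subgroup.map_sup, hS, subgroupOf_map_subtype, inf_eq_left.2 h.T_M₀,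
        LocalStructure.map_pResidual, ← MonoidHom.range_eq_map, M₀.range_subtype, sup_comm] at h1
      exact h1
    have hWR : W ≤ R := h.coreR ▸ LocalStructure.le_pCoreOf hWM₀ (hgen.ge.trans (sup_le
      (fun y hy => mem_normalizer_of_cj_le (hYW y hy))
      (fun t ht => mem_normalizer_of_cj_le (hTW t ht)))) (T.isPGroup'.to_le inf_le_left)
    refine le_trans (le_inf hT ?_) hWR
    rintro _ ⟨r, hr, rfl⟩
    have hnO := LocalStructure.normalizer_le_normalizer_pCoreOf (p := 2) Y (hY hn)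
    have hrM₀ : r ∈ M₀ := h.T_M₀ (h.R_T hr)
    rw [MulEquiv.coe_toMonoidHom, MulAut.conj_apply]
    refine mem_centMod.2 ⟨mul_mem (mul_mem hnO (hM₀O hrM₀)) (inv_mem hnO), fun a ha => ?_⟩
    have ha' : n⁻¹ * a * n ∈ Y := by
      simpa using (mem_normalizer_iff.1 (hY (inv_mem hn)) a).1 ha
    rw [show ⁅a, n * r * n⁻¹⁆ = n * ⁅n⁻¹ * a * n, r⁆ * n⁻¹ by
      simp only [commutatorElement_def]; group]
    exact (mem_normalizer_iff.1 hnO _).1 (hRO _ ha' r hr)
  · conv_rhs => rw [h.defR]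
    refine le_inf hT ?_
    rintro _ ⟨r, hr, rfl⟩
    exact (mem_normalizer_iff.1
      (CharPLocal.normalizer_le_normalizer_centralizer V (hV hn)) r).1 (h.R_C hr)

/-- Either the quadratic parameter is small or the Thompson subgroup lies in `R`. -/
theorem quad_or_J_le :
    QuadParamLE M₀ V 2 ∨ thompsonSubgroupOf 2 (T : Subgroup G) ≤ R := by
  by_cases hall : ∀ A ∈ PLocal.maxEAIn 2 (T : Subgroup G), A ≤ centralizer (V : Set G)
  · refine Or.inr ?_
    rw [PLocal.thompsonSubgroupOf_eq]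
    exact sSup_le fun A hA => h.defR.ge.trans' (le_inf hA.1 (hall A hA))
  · push Not at hall
    obtain ⟨A, hA, hne⟩ := hall
    have hAV := hA.1.trans h.T_normV
    obtain ⟨B, hBA, hB, hq, hc⟩ := exists_quad_offender T hA h.elem hAV hne
    refine Or.inl ⟨B, hBA.trans (hA.1.trans h.T_M₀),
      induces_of_quadratic h.elem (hBA.trans hAV) hB hq, hq, ?_⟩
    exact (relIndex_le_of_card hc).trans (Nat.le_self_pow two_ne_zero _)

theorem inf_centralizer_le (hV : ¬ H ≤ normalizer (V : Set G)) :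
    H ⊓ centralizer (V : Set G) ≤ M := by
  by_contra hne
  refine hV ?_
  have e := h.minimal ((H ⊓ centralizer (V : Set G)) ⊔ (T : Subgroup G)) le_sup_right
    (sup_le inf_le_left h.T_H) fun hh => hne (le_sup_left.trans hh)
  exact e.ge.trans (sup_le (inf_le_right.trans (centralizer_le_normalizer _)) h.T_normV)

theorem inf_normalizer_le (hJ : ¬ H ≤ normalizer (thompsonSubgroupOf 2 (T : Subgroup G) : Set G)) :
    H ⊓ normalizer (thompsonSubgroupOf 2 (T : Subgroup G) : Set G) ≤ M := by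
  by_contra hne
  refine hJ ?_
  have hTn : (T : Subgroup G) ≤ normalizer (thompsonSubgroupOf 2 (T : Subgroup G) : Set G) :=
    le_normalizer.trans (PLocal.normalizer_le_normalizer_thompsonSubgroupOf 2 _)
  exact (h.minimal _ (le_inf h.T_H hTn) inf_le_left hne).ge.trans inf_le_right

/-- An element of `H` keeping `R` inside `T` lies in `M` and fixes `R`. -/
theorem move (hJR : thompsonSubgroupOf 2 (T : Subgroup G) ≤ R)
    (hNJ : H ⊓ normalizer (thompsonSubgroupOf 2 (T : Subgroup G) : Set G) ≤ M)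
    {n : G} (hn : n ∈ H) (hT : cj n R ≤ (T : Subgroup G)) : n ∈ M ∧ cj n R = R := by
  haveI : Fact (Nat.Prime 2) := ⟨Nat.prime_two⟩
  have hnM : n ∈ M := by
    refine hNJ (mem_inf.2 ⟨hn, mem_normalizer_of_cj_le ?_⟩)
    rw [PLocal.thompsonSubgroupOf_eq, cj, (gc_map_comap _).l_sSup]
    refine iSup₂_le fun A hA => le_sSup ?_
    have hle : cj n A ≤ (T : Subgroup G) :=
      (cj_mono ((PLocal.le_thompsonSubgroupOf hA).trans hJR)).trans hT
    rw [FFBlocks.maxEAIn_sylow] at hA ⊢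
    exact ⟨FFBlocks.cj_mem_maxEA hA.1 n, hle⟩
  exact ⟨hnM, h.weakClosed (mem_inf.2 ⟨hn, hnM⟩) hT⟩

/-- A minimal `K`. -/
theorem exists_min (hJR : thompsonSubgroupOf 2 (T : Subgroup G) ≤ R)
    (hNJ : H ⊓ normalizer (thompsonSubgroupOf 2 (T : Subgroup G) : Set G) ≤ M) :
    ∃ K, Min T M H R K := by
  classical
  haveI : Fact (Nat.Prime 2) := ⟨Nat.prime_two⟩
  let 𝒦 : Set (Subgroup G) := {K | R ≤ K ∧ pCoreOf 2 H ≤ K ∧ K ≤ H ∧ ¬ K ≤ M ∧
    ∀ X : Subgroup G, X ≤ K → IsPGroup 2 X → (T : Subgroup G) ⊓ K ≤ X → X ≤ (T : Subgroup G)}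
  have hne : H ∈ 𝒦 := ⟨h.R_T.trans h.T_H, LocalStructure.pCoreOf_le H, le_rfl, h.notM,
    fun X _ hX hTX => (T.is_maximal' hX ((le_inf le_rfl h.T_H).trans hTX)).le⟩
  obtain ⟨K, ⟨hRK, hQK, hKH, hKM, hKs⟩, hmin⟩ :=
    Set.exists_min_image 𝒦 (fun K => Nat.card K) (Set.toFinite _) ⟨H, hne⟩
  refine ⟨K, hRK, hQK, hKH, hKM, hKs, fun K' hRK' hQK' hK'K hne' => ?_⟩
  by_contra hM'
  obtain ⟨S', ⟨hS'K, hS'p, hTS'⟩, hS'max⟩ := Set.exists_max_image
    {X : Subgroup G | X ≤ K' ∧ IsPGroup 2 X ∧ (T : Subgroup G) ⊓ K' ≤ X} (fun X => Nat.card X)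
    (Set.toFinite _) ⟨_, inf_le_right, T.isPGroup'.to_le inf_le_left, le_rfl⟩
  obtain ⟨n, hnH, hnT⟩ := exists_cj_le T h.T_H ((hS'K.trans hK'K).trans hKH) hS'p
  obtain ⟨hnM, hnR⟩ := h.move hJR hNJ hnH
    ((cj_mono ((le_inf h.R_T hRK').trans hTS')).trans hnT)
  have hmem : cj n K' ∈ 𝒦 := by
    refine ⟨hnR ▸ cj_mono hRK', (cj_eq_self.2 (h.H_normQ hnH)).ge.trans (cj_mono hQK'),
      (cj_mono (hK'K.trans hKH)).trans (cj_le_of_mem hnH), fun hle => hM' ?_, fun X hX hXp hTX => ?_⟩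
    · exact (cj_le_iff.1 hle).trans (cj_le_of_mem (inv_mem hnM))
    · have h1 : S' ≤ cj n⁻¹ X := cj_le_iff.1 ((le_inf hnT (cj_mono hS'K)).trans hTX)
      have h2 : cj n⁻¹ X = S' := (eq_of_le_of_card_ge h1 (hS'max _
        ⟨(cj_mono hX).trans (cj_inv_cj n K').le, hXp.map _, hTS'.trans h1⟩)).symm
      rw [← cj_cj_inv n X, h2]
      exact hnT
  exact hne' (eq_of_le_of_card_ge hK'K ((hmin _ hmem).trans (card_cj n K').le))

end Hyp

namespace Min

variable {T : Sylow 2 G} {M M₀ H V R K : Subgroup G} (m : Min T M H R K)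
  (h : Hyp T M M₀ H V R)
include m

theorem exists_sylow : ∃ S : Sylow 2 ↥K, (S : Subgroup ↥K) = (T : Subgroup G).subgroupOf K := by
  haveI : Fact (Nat.Prime 2) := ⟨Nat.prime_two⟩
  obtain ⟨S, hS⟩ := (T.isPGroup'.comap_subtype (K := K)).exists_le_sylow
  refine ⟨S, le_antisymm (fun x hx => mem_subgroupOf.2 ?_) hS⟩
  refine m.syl ((S : Subgroup ↥K).map K.subtype) (map_subtype_le _) (S.isPGroup'.map _) ?_
    (mem_map_of_mem _ hx)
  have h1 := map_mono (f := K.subtype)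
    (show (T : Subgroup G).subgroupOf K ≤ (S : Subgroup ↥K) from hS)
  rwa [subgroupOf_map_subtype] at h1

theorem S_le_K : (T : Subgroup G) ⊓ K ≤ K := inf_le_right

theorem K_normX : K ≤ normalizer (LocalStructure.pResOf 2 K : Set G) :=
  le_normalizer.trans (LocalStructure.normalizer_le_normalizer_pResOf K)

theorem sup_eq : LocalStructure.pResOf 2 K ⊔ ((T : Subgroup G) ⊓ K) = K := by
  haveI : Fact (Nat.Prime 2) := ⟨Nat.prime_two⟩
  obtain ⟨S, hS⟩ := m.exists_sylow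
  have h1 := congrArg (Subgroup.map K.subtype) (LocalStructure.sylow_sup_pResidual S)
  rwa [Subgroup.map_sup, hS, subgroupOf_map_subtype, LocalStructure.map_pResidual,
    ← MonoidHom.range_eq_map, K.range_subtype, sup_comm] at h1

theorem P_le_S : pCoreOf 2 K ≤ (T : Subgroup G) ⊓ K := by
  haveI : Fact (Nat.Prime 2) := ⟨Nat.prime_two⟩
  refine le_inf ?_ (LocalStructure.pCoreOf_le K)
  exact le_sup_left.trans (m.syl _ (sup_le (LocalStructure.pCoreOf_le K) inf_le_right)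
    ((LocalStructure.pCoreOf_isPGroup K).to_sup_of_normal_left' (T.isPGroup'.to_le inf_le_left)
      (inf_le_right.trans (LocalStructure.le_normalizer_pCoreOf K))) le_sup_right)

include h

theorem Q_le_P : pCoreOf 2 H ≤ pCoreOf 2 K :=
  LocalStructure.le_pCoreOf m.Q_K (m.K_H.trans h.H_normQ) (LocalStructure.pCoreOf_isPGroup H)

theorem charP : K ⊓ centralizer (pCoreOf 2 K : Set G) ≤ pCoreOf 2 K :=
  ((inf_le_inf m.K_H (centralizer_le (SetLike.coe_subset_coe.2 (m.Q_le_P h)))).trans h.charQ).trans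
    (m.Q_le_P h)

theorem R_le_S : R ≤ (T : Subgroup G) ⊓ K := le_inf h.R_T m.R_K

theorem Q_le_S : pCoreOf 2 H ≤ (T : Subgroup G) ⊓ K := le_inf h.Q_T m.Q_K

omit h in
theorem eq_of {X : Subgroup G} (hR : R ≤ X) (hQ : pCoreOf 2 H ≤ X) (hX : X ≤ K) (hM : ¬ X ≤ M) :
    X = K := by_contra fun hne => hM (m.key X hR hQ hX hne)

theorem S_le_M : (T : Subgroup G) ⊓ K ≤ M := inf_le_left.trans h.T_M

/-- A normal subgroup of `K` inside `M` meets `T` inside `O₂(K)`. -/
theorem inf_normal_le {N : Subgroup G} (hNK : N ≤ K) (hn : K ≤ normalizer (N : Set G))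
    (hNM : N ≤ M) : (T : Subgroup G) ⊓ N ≤ pCoreOf 2 K := by
  haveI : Fact (Nat.Prime 2) := ⟨Nat.prime_two⟩
  haveI : (N.subgroupOf K).Normal := (normal_subgroupOf_iff_le_normalizer hNK).2 hn
  obtain ⟨S, hS⟩ := m.exists_sylow
  obtain ⟨Q', hQ'⟩ := CfsgLib.LocalEvenBasic.exists_sylow_map_eq_inf S (N.subgroupOf K)
  have hF := Sylow.normalizer_sup_eq_top Q'
  rw [hQ', hS] at hF
  set R' := (T : Subgroup G) ⊓ N
  have e : (T : Subgroup G).subgroupOf K ⊓ N.subgroupOf K = R'.subgroupOf K :=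
    (comap_inf _ _ _).symm
  rw [e] at hF
  have hR'K : R' ≤ K := inf_le_right.trans hNK
  set X := K ⊓ normalizer (R' : Set G)
  have hSX : (T : Subgroup G) ⊓ K ≤ X := le_inf inf_le_right fun t ht => by
    refine mem_normalizer_of_cj_le (le_inf ((cj_mono inf_le_left).trans (cj_le_of_mem ht.1)) ?_)
    exact (cj_mono inf_le_right).trans (cj_eq_self.2 (hn ht.2)).le
  have hXK : X = K := by
    refine m.eq_of ((m.R_le_S h).trans hSX) ((m.Q_le_S h).trans hSX) inf_le_left fun hXM => ?_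
    refine m.notM fun k hk => ?_
    have h2 : normalizer (R'.subgroupOf K : Set ↥K) ≤ M.subgroupOf K := fun x hx => by
      refine mem_subgroupOf.2 (hXM (mem_inf.2 ⟨x.2, mem_normalizer_of_cj_le ?_⟩))
      rintro _ ⟨r, hr, rfl⟩
      exact (mem_normalizer_iff.1 hx ⟨r, hR'K hr⟩).1 (mem_subgroupOf.2 hr)
    exact mem_subgroupOf.1
      (sup_le h2 (comap_mono hNM) (hF.ge (mem_top (⟨k, hk⟩ : ↥K))))
  exact LocalStructure.le_pCoreOf hR'K (hXK.ge.trans inf_le_right)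
    (T.isPGroup'.to_le inf_le_left)

/-- A normal subgroup of `K` outside `M` contains `O²(K)`. -/
theorem pResOf_le_of {N : Subgroup G} (hNK : N ≤ K) (hn : K ≤ normalizer (N : Set G))
    (hNM : ¬ N ≤ M) : LocalStructure.pResOf 2 K ≤ N := by
  haveI : Fact (Nat.Prime 2) := ⟨Nat.prime_two⟩
  haveI : (N.subgroupOf K).Normal := (normal_subgroupOf_iff_le_normalizer hNK).2 hn
  obtain ⟨S, hS⟩ := m.exists_sylow
  have hgen : N ⊔ ((T : Subgroup G) ⊓ K) = K :=
    m.eq_of ((m.R_le_S h).trans le_sup_right) ((m.Q_le_S h).trans le_sup_right)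
      (sup_le hNK inf_le_right) fun hh => hNM (le_sup_left.trans hh)
  refine LocalStructure.pResOf_le_of_forall fun g hg hc => ?_
  obtain ⟨a, ha, b, hb, e⟩ := exists_eq_mul (inf_le_right.trans hn) (hgen.ge hg)
  obtain ⟨k, hk⟩ := (T.isPGroup'.to_le (inf_le_left : (T : Subgroup G) ⊓ K ≤ _)) ⟨b, hb⟩
  have hq : ((⟨g, hg⟩ : ↥K) : ↥K ⧸ N.subgroupOf K) = ((⟨b, hb.2⟩ : ↥K) : ↥K ⧸ N.subgroupOf K) := by
    rw [QuotientGroup.eq, mem_subgroupOf]
    show g⁻¹ * b ∈ N
    rw [e, mul_inv_rev]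
    simpa [mul_assoc] using (mem_normalizer_iff.1 (hn (inv_mem hb.2)) _).1 (inv_mem ha)
  have h1 : (⟨g, hg⟩ : ↥K) ^ 2 ^ k ∈ N.subgroupOf K := by
    rw [← QuotientGroup.eq_one_iff, QuotientGroup.mk_pow, hq, ← QuotientGroup.mk_pow]
    have hb1 : (⟨b, hb.2⟩ : ↥K) ^ 2 ^ k = 1 := Subtype.ext (by simpa using congrArg Subtype.val hk)
    rw [hb1, QuotientGroup.mk_one]
  exact LocalStructure.mem_of_coprime_of_pow_mem (k := k) hc (mem_subgroupOf.1 h1)

/-- `K` is `2`-minimal. -/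
theorem exists_pmin : ∃ S : Sylow 2 ↥K, (S : Subgroup ↥K) = (T : Subgroup G).subgroupOf K ∧
    PMin S (M.subgroupOf K) := by
  obtain ⟨S, hS⟩ := m.exists_sylow
  refine ⟨S, hS, hS.le.trans (comap_mono h.T_M), fun e => m.notM (subgroupOf_eq_top.1 e),
    fun X hX hne x hx => mem_subgroupOf.2 ?_⟩
  have hSX : (T : Subgroup G) ⊓ K ≤ X.map K.subtype := by
    rw [← subgroupOf_map_subtype, ← hS]; exact map_mono hX
  exact m.key _ ((m.R_le_S h).trans hSX) ((m.Q_le_S h).trans hSX) (map_subtype_le _)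
    (fun e => hne (Subgroup.map_injective K.subtype_injective
      (e.trans (by rw [← MonoidHom.range_eq_map, K.range_subtype])))) (mem_map_of_mem _ hx)

end Min

end CfsgLib.Qrc85
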