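import Cfsg.Agent.Qrc85.Setup
import Cfsg.Agent.Qrc85.Image
import Cfsg.Agent.BlockNormal85.Tools

/-!
# A moved section inside `O₂(K)` bounds the elementary abelian subgroups of the Sylow subgroup
-/

set_option autoImplicit false
set_option linter.style.haveILetI false
set_option linter.unusedSectionVars false

namespace CfsgLib.Qrc85

open Subgroup Cfsg CfsgLib.FFCells CfsgLib.PushParabolic85
open scoped commutatorElement

variable {G : Type*} [Group G] [Finite G] {T : Sylow 2 G} {M M₀ H V R K : Subgroup G}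

theorem commutatorElement_mem_swap {C : Subgroup G} {x y : G} (h : ⁅x, y⁆ ∈ C) : ⁅y, x⁆ ∈ C := by
  rw [← commutatorElement_inv]; exact inv_mem h

/-- A section killed by `O₂(K)` and moved by `O²(K)` satisfies the hypotheses on the module. -/
theorem exists_modHyp (h : Hyp T M M₀ H V R) (m : Min T M H R K) {B C : Subgroup G}
    (hs : Sec K B C) (hP : ∀ g ∈ pCoreOf 2 K, ∀ b ∈ B, ⁅g, b⁆ ∈ C)
    (hmov : ∃ x ∈ LocalStructure.pResOf 2 K, ∃ b ∈ B, ⁅x, b⁆ ∉ C) :
    ∃ S : Sylow 2 ↥K, (S : Subgroup ↥K) = (T : Subgroup G).subgroupOf K ∧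
      ModHyp hs.rep S (M.subgroupOf K) := by
  haveI : Fact (Nat.Prime 2) := ⟨Nat.prime_two⟩
  obtain ⟨S, hS, hpm⟩ := m.exists_pmin h
  refine ⟨S, hS, hs.exp, hpm, fun g hg => hs.rep_eq_one.2 (hP _ (mem_map_of_mem _ hg)),
    fun N hN hNM x hx => ?_, ?_⟩
  · have hn : K ≤ normalizer (N.map K.subtype : Set G) := le_normalizer_map_subtype hN
    have hNM' : N.map K.subtype ≤ M := by
      rintro _ ⟨y, hy, rfl⟩
      exact mem_subgroupOf.1 (hNM hy)
    have h1 := m.inf_normal_le h (map_subtype_le N) hn hNM'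
      (mem_inf.2 ⟨mem_subgroupOf.1 (hS.le (mem_inf.1 hx).1), mem_map_of_mem _ (mem_inf.1 hx).2⟩)
    obtain ⟨z, hz, e⟩ := h1
    exact (Subtype.ext e : z = x) ▸ hz
  · intro g hg
    by_contra hgM
    obtain ⟨x, hx, b, hb, hxb⟩ := hmov
    have hn : K ≤ normalizer (hs.rep.ker.map K.subtype : Set G) :=
      le_normalizer_map_subtype inferInstance
    have hX := m.pResOf_le_of h (map_subtype_le _) hn fun hle =>
      hgM (mem_subgroupOf.2 (hle (mem_map_of_mem _ hg)))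
    obtain ⟨z, hz, rfl⟩ := hX hx
    exact hxb (hs.rep_eq_one.1 (MonoidHom.mem_ker.1 hz) b hb)

theorem relIndex_le_of_moved (h : Hyp T M M₀ H V R) (m : Min T M H R K)
    {B₁ B₂ D A : Subgroup G} (h21 : B₂ ≤ B₁) (h1P : B₁ ≤ pCoreOf 2 K)
    (hK1 : K ≤ normalizer (B₁ : Set G)) (hK2 : K ≤ normalizer (B₂ : Set G))
    (hmov : ∃ x ∈ LocalStructure.pResOf 2 K, ∃ b ∈ B₁, ⁅x, b⁆ ∉ B₂)
    (hA : A ≤ (T : Subgroup G) ⊓ K) (hAe : IsElementaryAbelian 2 A)
    (hDA : ∀ b ∈ D, ∀ a ∈ A, ⁅a, b⁆ ∈ B₂) :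
    (pCoreOf 2 K).relIndex A ≤ D.relIndex B₁ := by
  classical
  haveI : Fact (Nat.Prime 2) := ⟨Nat.prime_two⟩
  set X := LocalStructure.pResOf 2 K
  set P := pCoreOf 2 K
  have hXK : X ≤ K := LocalStructure.pResOf_le K
  have hPK : P ≤ K := LocalStructure.pCoreOf_le K
  have hPp : IsPGroup 2 P := LocalStructure.pCoreOf_isPGroup K
  have hKP : K ≤ normalizer (P : Set G) := LocalStructure.le_normalizer_pCoreOf K
  obtain ⟨B', ⟨hB'2, hB'1, hKB', x₀, hx₀, b₀, hb₀, hxb₀⟩, hmin⟩ := Set.exists_min_image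
    {B' : Subgroup G | B₂ ≤ B' ∧ B' ≤ B₁ ∧ K ≤ normalizer (B' : Set G) ∧
      ∃ x ∈ X, ∃ b ∈ B', ⁅x, b⁆ ∉ B₂} (fun B' => Nat.card B') (Set.toFinite _)
    ⟨B₁, h21, le_rfl, hK1, hmov⟩
  obtain ⟨B₃, ⟨h23, h3', h3ne, hKB₃⟩, hmax⟩ := Set.exists_max_image
    {C : Subgroup G | B₂ ≤ C ∧ C ≤ B' ∧ C ≠ B' ∧ K ≤ normalizer (C : Set G)}
    (fun C => Nat.card C) (Set.toFinite _)
    ⟨B₂, le_rfl, hB'2, fun e => hxb₀ (by
      rw [commutatorElement_def]
      exact mul_mem ((mem_normalizer_iff.1 (hK2 (hXK hx₀)) _).1 (e.ge hb₀))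
        (inv_mem (e.ge hb₀))), hK2⟩
  have hmax' : ∀ C : Subgroup G, B₃ ≤ C → C ≤ B' → K ≤ normalizer (C : Set G) → C ≠ B' →
      C = B₃ := fun C h1 h2 h3 h4 =>
    (eq_of_le_of_card_ge h1 (hmax C ⟨h23.trans h1, h2, h4, h3⟩)).symm
  have hB'P : B' ≤ P := hB'1.trans h1P
  -- `P` is trivial on `B' / B₃`
  have hBP : ⁅B', P⁆ ≤ B₃ := by
    have hle : B₃ ⊔ ⁅B', P⁆ ≤ B' :=
      sup_le h3' (Coprime.commutator_le_of_le_normalizer (hPK.trans hKB'))
    refine le_sup_right.trans (hmax' _ le_sup_left hle (fun k hk => mem_normalizer_of_cj_le ?_)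
      fun e => h3ne (le_antisymm h3' ?_)).le
    · rw [PushAut85.cj_sup]
      refine sup_le_sup (cj_eq_self.2 (hKB₃ hk)).le ?_
      rw [cj, map_commutator]
      exact commutator_mono (cj_eq_self.2 (hKB' hk)).le (cj_eq_self.2 (hKP hk)).le
    · exact LocalStructure.le_of_le_sup_commutator_isPGroup hPp (h3'.trans hB'P) hB'P
        (hPK.trans hKB₃) e.ge
  have hcomm : ∀ a ∈ B', ∀ b ∈ B', ⁅a, b⁆ ∈ B₃ := fun a ha b hb =>
    hBP (commutator_mem_commutator ha (hB'P hb))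
  -- squares
  have hsq : ∀ b ∈ B', b * b ∈ B₃ := by
    let B₅ : Subgroup G :=
      { carrier := {b | b ∈ B' ∧ b * b ∈ B₃}
        one_mem' := ⟨one_mem _, by simp [one_mem]⟩
        mul_mem' := fun {a b} ha hb => ⟨mul_mem ha.1 hb.1, by
          rw [show a * b * (a * b) = a * a * ⁅a⁻¹, b⁆ * (b * b) by
            simp only [commutatorElement_def]; group]
          exact mul_mem (mul_mem ha.2 (hcomm a⁻¹ (inv_mem ha.1) b hb.1)) hb.2⟩
        inv_mem' := fun {a} ha => ⟨inv_mem ha.1, by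
          rw [← mul_inv_rev]; exact inv_mem ha.2⟩ }
    have h35 : B₃ ≤ B₅ := fun b hb => ⟨h3' hb, mul_mem hb hb⟩
    have h5' : B₅ ≤ B' := fun b hb => hb.1
    have hK5 : K ≤ normalizer (B₅ : Set G) := fun k hk => mem_normalizer_of_cj_le (by
      rintro _ ⟨b, hb, rfl⟩
      rw [MulEquiv.coe_toMonoidHom, MulAut.conj_apply]
      exact ⟨(mem_normalizer_iff.1 (hKB' hk) _).1 hb.1, by
        rw [show k * b * k⁻¹ * (k * b * k⁻¹) = k * (b * b) * k⁻¹ by group]
        exact (mem_normalizer_iff.1 (hKB₃ hk) _).1 hb.2⟩)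
    intro b hb
    by_contra hb2
    have h55 : B₅ = B₃ := hmax' _ h35 h5' hK5 fun e => hb2 (e.ge hb).2
    have hex : ∃ k, b ^ 2 ^ k ∈ B₃ := (hPp ⟨b, hB'P hb⟩).imp fun k hk => by
      rw [show b ^ 2 ^ k = 1 by simpa using congrArg Subtype.val hk]; exact one_mem _
    have hk := Nat.find_spec hex
    rcases e : Nat.find hex with - | k
    · rw [e] at hk
      simp only [pow_zero, pow_one] at hk
      exact hb2 (mul_mem hk hk)
    · rw [e, pow_succ, pow_mul, pow_two] at hk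
      exact Nat.find_min hex (m := k) (by omega) (h55.le ⟨pow_mem hb _, hk⟩)
  have hsec : Sec K B' B₃ := ⟨h3', hKB', hKB₃, hcomm, hsq⟩
  -- `X` moves the section
  have hmov' : ∃ x ∈ X, ∃ b ∈ B', ⁅x, b⁆ ∉ B₃ := by
    by_contra hno
    push Not at hno
    have h3fix : ∀ x ∈ X, ∀ b ∈ B₃, ⁅x, b⁆ ∈ B₂ := fun x hx b hb => by
      by_contra hxb
      exact h3ne (eq_of_le_of_card_ge h3'
        (hmin B₃ ⟨h23, h3'.trans hB'1, hKB₃, x, hx, b, hb, hxb⟩))
    have hXc : X ≤ centMod B' B₂ := LocalStructure.pResOf_le_of_forall fun x hx hxc => by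
      have hxX : x ∈ X := LocalStructure.mem_pResOf hx hxc
      have hz : zpowers x ≤ X := zpowers_le.2 hxX
      have e1 := Coprime.commutator_commutator_eq ((hz.trans hXK).trans hKB')
        (BlockNormal85.coprime_zpowers (hPp.to_le hB'P) hxc)
      refine mem_centMod.2 ⟨hK2 hx, fun b hb => ?_⟩
      have h1 : ⁅B', zpowers x⁆ ≤ B₃ := commutator_le.2 fun a ha y hy =>
        commutatorElement_mem_swap (hno y (hz hy) a ha)
      have h2 : ⁅B', zpowers x⁆ ≤ B₂ := by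
        rw [← e1]
        exact commutator_le.2 fun a ha y hy => commutatorElement_mem_swap (h3fix y (hz hy) a (h1 ha))
      exact h2 (commutator_mem_commutator hb (mem_zpowers x))
    exact hxb₀ (commutatorElement_mem_swap ((mem_centMod.1 (hXc hx₀)).2 b₀ hb₀))
  obtain ⟨S, hS, hmod⟩ := exists_modHyp h m hsec
    (fun g hg b hb => commutatorElement_mem_swap (hBP (commutator_mem_commutator hb hg))) hmov'
  have hA' : A.subgroupOf K ≤ (S : Subgroup ↥K) := hS ▸ comap_mono (hA.trans inf_le_left)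
  have hAe' : IsElementaryAbelian 2 (A.subgroupOf K) :=
    (PLocal.isElementaryAbelian_map_iff K.subtype_injective).1 (by
      rw [subgroupOf_map_subtype, inf_eq_left.2 (hA.trans inf_le_right)]; exact hAe)
  have hwt := hmod.wt_le hA' hAe'
  have hrel : (Cfsg.pCore 2 ↥K).relIndex (A.subgroupOf K) = P.relIndex A := by
    rw [show Cfsg.pCore 2 ↥K = P.subgroupOf K from
      (comap_map_eq_self_of_injective K.subtype_injective _).symm,
      relIndex_subgroupOf (hA.trans inf_le_right)]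
  set F := SL2Recognition.fix hsec.rep (A.subgroupOf K)
  have eF : F.index * Nat.card ↥F = Nat.card hsec.Mod := AddSubgroup.index_mul_card F
  rw [hrel] at hwt
  replace hwt : P.relIndex A * Nat.card ↥F ≤ F.index * Nat.card ↥F := eF ▸ hwt
  refine (Nat.le_of_mul_le_mul_right hwt Nat.card_pos).trans ?_
  rw [← hsec.relIndex_pre F]
  have hne : ∀ X Y : Subgroup G, X.relIndex Y ≠ 0 := fun X Y => Subgroup.index_ne_zero_of_finite
  calc (hsec.pre F).relIndex B' ≤ (D ⊓ B').relIndex B' := by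
        refine Nat.le_of_dvd (Nat.pos_of_ne_zero (hne _ _)) (relIndex_dvd_of_le_left _ ?_)
        intro b hb
        refine hsec.mem_pre.2 ⟨hb.2, fun a ha => hsec.rep_vec_eq.2 ?_⟩
        exact h23 (hDA b hb.1 _ (mem_subgroupOf.1 ha))
    _ = D.relIndex B' := inf_relIndex_right _ _
    _ ≤ D.relIndex B₁ := relIndex_le_of_le_right hB'1 (hne _ _)

end CfsgLib.Qrc85
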